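import Groth.Agent.AmpleVan.AdicGen
import Groth.Agent.FComplLib.AffMod
import Groth.Agent.ParaFX.ThickTriv
import Groth.Agent.AmpleX.Pow
import Groth.Agent.KRRReg.LocFree
import Groth.Agent.ParaFX.FlatDesc

/-! Lifting sections of high powers of an ample system of invertible modules. -/

set_option autoImplicit false
set_option linter.style.haveILetI false
set_option backward.isDefEq.respectTransparency false
set_option backward.isDefEq.respectTransparency.types false

universe u

open CategoryTheory CategoryTheory.Limits AlgebraicGeometry TopologicalSpace Opposite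
open Groth.Agent.H23.PicMul

attribute [local instance] HasDerivedCategory.standard

noncomputable section

namespace Groth.Agent.H9Existence

open Groth.Agent Groth.Agent.AmpleVan

/-- An epimorphism of invertible modules is an isomorphism. -/
theorem isIso_of_epi_invertible {X : Scheme.{u}} {L M : X.Modules} (hL : PicF.IsInvertible L)
    (hM : PicF.IsInvertible M) (f : L ⟶ M) [Epi f] : IsIso f := by
  haveI : ∀ x, IsIso ((DerSch.stalkFunctor X x).map f) := fun x => by
    let R := X.presheaf.stalk x
    obtain ⟨b⟩ := CurveTensor.exists_basis_stalk (InvEnd.isFinLocFreeOfRank_one hL) x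
    obtain ⟨b'⟩ := CurveTensor.exists_basis_stalk (InvEnd.isFinLocFreeOfRank_one hM) x
    let eL := b.equivFun.trans (LinearEquiv.funUnique (Fin 1) R R)
    let eM := b'.equivFun.trans (LinearEquiv.funUnique (Fin 1) R R)
    let F : R →ₗ[R] R := eM.toLinearMap ∘ₗ ((DerSch.stalkFunctor X x).map f).hom ∘ₗ eL.symm.toLinearMap
    have h1 : Function.Surjective ((DerSch.stalkFunctor X x).map f) :=
      (Synt29.OmegaStalk.epi_iff_stalk f).1 inferInstance x
    have hF : Function.Surjective F := eM.surjective.comp (h1.comp eL.symm.surjective)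
    have h2 := (Function.Bijective.of_comp_iff' eM.bijective _).1 (OrzechProperty.bijective_of_surjective_endomorphism F hF)
    exact (ConcreteCategory.isIso_iff_bijective _).2 ((Function.Bijective.of_comp_iff _ eL.symm.bijective).1 h2)
  exact KFlatLib.isIso_of_stalk f this

variable {A : Type u} [CommRing A] [IsNoetherianRing A] {J : Ideal A} (S : AdicSys A J)

/-- Global sections of high powers lift level by level. -/
theorem exists_lift_sections (hp : IsProper (S.p 0)) (L : ∀ k, (S.X k).Modules)
    (hL : ∀ k, PicF.IsInvertible (L k))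
    (φ : ∀ k, Nonempty ((Scheme.Modules.pullback (S.i k)).obj (L (k + 1)) ≅ L k)) (ha : CohB1.IsAmple (L 0)) :
    ∃ n₀ : ℕ, ∀ n, n₀ ≤ n → ∀ k,
      Function.Surjective (FComplLib.pullTop (S.i k) (CohB1.tensorPow (L (k + 1)) n)) := by
  let O : AdicMod S := ⟨fun k => Coh.structureModule (S.X k),
    fun k => haveI := S.isLocallyNoetherian hp k
      KRRReg.isCoh_of_finLocFree (ParaFX.FlatDesc.isFinLocFree_of_invertible InvX.isInvertible_structureModule),
    fun k => (cl_eq_iff.1 (by
      show PicF.pullCl (S.i k) (PicF.cl (Coh.structureModule (S.X (k + 1)))) = _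
      rw [← H23.PicMul.one_def, H23.PicMul.pullCl_one]; rfl)).some,
    fun k => S.isLocallyNoetherian hp k⟩
  obtain ⟨n₀, hn₀⟩ := O.exists_vanishing hp L hL φ ha
  refine ⟨n₀, fun n hn k => ?_⟩
  let P := CohB1.tensorPow (L (k + 1)) n
  have hP : PicF.IsInvertible P := InvX.isInvertible_tensorPow (hL (k + 1)) n
  haveI := isEquivalence_tw hP
  haveI : (tw P).Additive := Functor.additive_of_preserves_binary_products _
  haveI := O.epi_π k
  have hses : (ShortComplex.mk (kernel.ι (O.π k)) (O.π k) (kernel.condition _)).ShortExact :=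
    { exact := ShortComplex.exact_kernel _, mono_f := inferInstance, epi_g := inferInstance }
  have hsurj := QCoh.app_top_surjective_of_HH_one (hses.map_of_exact (tw P)) ((hn₀ n hn k 0).2)
  obtain ⟨e⟩ := exists_twist_push (S.square_i k) (O.isQCoh_push k) (fun b hb => by
    rw [← push_map_smulMod (S.i k) (S.i_over k), S.smulMod_eq_zero k (O.F k) hb, Functor.map_zero]) hP
  let Q := CohB1.tensorMod ((Scheme.Modules.pullback (S.i k)).obj ((Scheme.Modules.pushforward (S.i k)).obj (O.F k)))
    ((Scheme.Modules.pullback (S.i k)).obj P)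
  haveI := isIso_counit (S.i k) (O.coh k).1
  have hQ : PicF.IsInvertible Q := InvX.isInvertible_tensorMod
    (H23.PicMul.isInvertible_of_iso (asIso ((Scheme.Modules.pullbackPushforwardAdjunction (S.i k)).counit.app (O.F k))).symm
      InvX.isInvertible_structureModule) (PicClLib.isInvertible_pullback _ hP)
  obtain ⟨c⟩ : Nonempty (P ≅ (tw P).obj (O.F (k + 1))) := cl_eq_iff.1 (by
    show PicF.cl P = PicF.cl (CohB1.tensorMod (Coh.structureModule (S.X (k + 1))) P)
    rw [cl_tensor, ← H23.PicMul.one_def, one_mul])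
  let q : P ⟶ (Scheme.Modules.pushforward (S.i k)).obj Q := c.hom ≫ (tw P).map (O.π k) ≫ e.hom
  haveI : Epi ((tw P).map (O.π k)) := inferInstance
  haveI : Epi q := epi_comp _ _
  let adj := Scheme.Modules.pullbackPushforwardAdjunction (S.i k)
  let g : (Scheme.Modules.pullback (S.i k)).obj P ⟶ Q := (adj.homEquiv _ _).symm q
  haveI := isIso_counit (S.i k) (ProjUPX.isQCoh_of_isInvertible hQ)
  haveI : Epi g := by
    show Epi ((adj.homEquiv _ _).symm q)
    rw [adj.homEquiv_counit]
    exact epi_comp _ _
  haveI := isIso_of_epi_invertible (PicClLib.isInvertible_pullback _ hP) hQ g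
  have hη : adj.unit.app P = q ≫ (Scheme.Modules.pushforward (S.i k)).map (inv g) := by
    have : adj.unit.app P ≫ (Scheme.Modules.pushforward (S.i k)).map g = q :=
      (adj.homEquiv_unit _ _ _).symm.trans ((adj.homEquiv _ _).apply_symm_apply q)
    rw [← this, Category.assoc, ← Functor.map_comp, IsIso.hom_inv_id]
    erw [(Scheme.Modules.pushforward (S.i k)).map_id, Category.comp_id]
  intro y
  let y₁ : Γ(Q, S.i k ⁻¹ᵁ ⊤) := g.app (S.i k ⁻¹ᵁ ⊤) y
  obtain ⟨x, hx⟩ := hsurj (e.inv.app ⊤ y₁)
  refine ⟨c.inv.app ⊤ x, ?_⟩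
  show (adj.unit.app P).app ⊤ (c.inv.app ⊤ x) = y
  rw [hη]
  show ((Scheme.Modules.pushforward (S.i k)).map (inv g)).app ⊤
    (e.hom.app ⊤ (((tw P).map (O.π k)).app ⊤ (c.hom.app ⊤ (c.inv.app ⊤ x)))) = y
  rw [show c.hom.app ⊤ (c.inv.app ⊤ x) = x from congr(($(c.inv_hom_id)).app ⊤ x)]
  rw [show ((tw P).map (O.π k)).app ⊤ x = e.inv.app ⊤ y₁ from hx,
    show e.hom.app ⊤ (e.inv.app ⊤ y₁) = y₁ from congr(($(e.inv_hom_id)).app ⊤ y₁)]
  exact congr(($(IsIso.hom_inv_id g)).app _ y)

end Groth.Agent.H9Existence
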