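import Groth.Agent.H9Existence.Lift
import Groth.Agent.Lib.AmpleEmbed
import Groth.Agent.S3573
import Groth.Agent.VeryAmple.Main
import Groth.Agent.Div21Lib.PicTfae

/-! Compatible closed immersions of an adic system into a projective space over the base. -/

set_option autoImplicit false
set_option linter.style.haveILetI false
set_option backward.isDefEq.respectTransparency false
set_option backward.isDefEq.respectTransparency.types false

universe u

open CategoryTheory CategoryTheory.Limits AlgebraicGeometry TopologicalSpace Opposite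
open Groth.Agent.H23.PicMul

noncomputable section

namespace Groth.Agent.H9Existence

open Groth.Agent Groth.Agent.AmpleVan

theorem locus_app_iso {X : Scheme.{u}} {L M : X.Modules} (e : L ≅ M) (s : Γ(L, ⊤)) :
    H23.TrivBasic.locus (e.hom.app ⊤ s) = H23.TrivBasic.locus s := by
  refine Opens.ext (Set.ext fun x => ?_)
  rw [SetLike.mem_coe, SetLike.mem_coe, H23.TrivBasic.mem_locus_iff, H23.TrivBasic.mem_locus_iff]
  refine ⟨fun ⟨U, hx, h⟩ => ⟨U, hx, ?_⟩, fun ⟨U, hx, h⟩ => ⟨U, hx, ?_⟩⟩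
  · have := h.map_iso e.symm
    rw [show e.symm.hom = e.inv from rfl, AModX.app_res,
      show e.inv.app ⊤ (e.hom.app ⊤ s) = s from congr(($(e.hom_inv_id)).app ⊤ s)] at this
    exact this
  · have := h.map_iso e
    rwa [AModX.app_res] at this

variable {A : Type u} [CommRing A] {J : Ideal A} (S : AdicSys A J)

theorem surjective_i (k : ℕ) : Surjective (S.i k) := by
  haveI : Surjective (S.j k ≫ S.i k) := S.surjective_j (k + 1)
  exact Surjective.of_comp (S.j k) (S.i k)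

theorem scal_pow_eq_zero (k : ℕ) {a : A} (ha : a ∈ J ^ (k + 1)) (U : (S.X k).Opens) :
    scal A U a = 0 := by
  have e0 : (CohB1.specQuot J k).appTop ((Scheme.ΓSpecIso (CommRingCat.of A)).inv a) =
      (Scheme.ΓSpecIso (CommRingCat.of (A ⧸ J ^ (k + 1)))).inv (Ideal.Quotient.mk (J ^ (k + 1)) a) :=
    congr($(Scheme.ΓSpecIso_inv_naturality (CommRingCat.ofHom (Ideal.Quotient.mk (J ^ (k + 1))))) a).symm
  have e1 : Coh.toGlobal (S.X k ↘ Spec (CommRingCat.of A)) a = (0 : Γ(S.X k, ⊤)) := by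
    show (S.p k).appTop ((CohB1.specQuot J k).appTop ((Scheme.ΓSpecIso (CommRingCat.of A)).inv a)) = 0
    rw [e0, Ideal.Quotient.eq_zero_iff_mem.2 ha, map_zero, map_zero]
  show Coh.resTop (S.X k) (op U) (Coh.toGlobal (S.X k ↘ Spec (CommRingCat.of A)) a) = 0
  rw [e1, map_zero]

/-- A map over the base which is a closed immersion on the bottom level is one on every level. -/
theorem isClosedImmersion_level {P : Scheme.{u}} [P.Over (Spec (CommRingCat.of A))] (k : ℕ) (f : S.X k ⟶ P)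
    (hf : f ≫ (P ↘ Spec (CommRingCat.of A)) = S.X k ↘ Spec (CommRingCat.of A))
    [IsClosedImmersion (S.j k ≫ f)] : IsClosedImmersion f := by
  have haff : IsAffineHom f :=
    (MorLib.Thick.isAffineHom_iff (S.j k) (𝟙 P) (S.j k ≫ f) f (by rw [Category.comp_id])).mp inferInstance
  refine isClosedImmersion_iff_isAffineHom.mpr ⟨haff, fun U hU => ?_⟩
  have hV : IsAffineOpen (f ⁻¹ᵁ U) := hU.preimage f
  intro b
  let φ := (f.app U).hom
  suffices h : ∀ n, ∀ b, ∃ a, b - φ a ∈ (J ^ n).map (scal A (f ⁻¹ᵁ U)) by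
    obtain ⟨a, ha⟩ := h (k + 1) b
    refine ⟨a, (sub_eq_zero.1 ?_).symm⟩
    have h0 : (J ^ (k + 1)).map (scal A (f ⁻¹ᵁ U)) = ⊥ := by
      rw [Ideal.map_eq_bot_iff_le_ker]
      exact fun c hc => scal_pow_eq_zero S k hc _
    rwa [h0, Ideal.mem_bot] at ha
  have hscal : ∀ c, φ (scal A U c) = scal A (f ⁻¹ᵁ U) c := fun c => by
    show f.app U (Coh.resTop P (op U) _) = _
    rw [resTop_app]
    exact congrArg (Coh.resTop (S.X k) (op (f ⁻¹ᵁ U)))
      congr(($hf).appTop ((Scheme.ΓSpecIso (CommRingCat.of A)).inv c))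
  have h1 : ∀ b, ∃ a, b - φ a ∈ J.map (scal A (f ⁻¹ᵁ U)) := by
    intro b
    obtain ⟨a, ha⟩ := (S.j k ≫ f).app_surjective U hU ((S.j k).app (f ⁻¹ᵁ U) b)
    refine ⟨a, ?_⟩
    have hk := ker_ideal_of_isPullback (S.square_j' k) ⟨f ⁻¹ᵁ U, hV⟩
    rw [show J ^ (0 + 1) = J by rw [zero_add, pow_one]] at hk
    rw [← hk, FComplLib.ideal_ker, RingHom.mem_ker, map_sub, sub_eq_zero]
    exact ha.symm
  intro n
  induction n with
  | zero => exact fun b => ⟨0, by rw [pow_zero, Ideal.one_eq_top, Ideal.map_top]; trivial⟩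
  | succ n ih =>
    intro b
    obtain ⟨a, ha⟩ := ih b
    suffices ∀ t ∈ (J ^ n).map (scal A (f ⁻¹ᵁ U)), ∃ a, t - φ a ∈ (J ^ (n + 1)).map (scal A (f ⁻¹ᵁ U)) by
      obtain ⟨a', ha'⟩ := this _ ha
      exact ⟨a + a', by rw [map_add, ← sub_sub]; exact ha'⟩
    intro t ht
    induction ht using Submodule.span_induction with
    | mem x hx =>
      obtain ⟨c, hc, rfl⟩ := hx
      exact ⟨scal A U c, by rw [hscal, sub_self]; exact zero_mem _⟩
    | zero => exact ⟨0, by simp⟩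
    | add x y _ _ hx hy =>
      obtain ⟨p, hp⟩ := hx
      obtain ⟨q, hq⟩ := hy
      exact ⟨p + q, by rw [map_add, add_sub_add_comm]; exact add_mem hp hq⟩
    | smul r x hx0 hx =>
      obtain ⟨p, hp⟩ := hx
      obtain ⟨d, hd⟩ := h1 r
      refine ⟨d * p, ?_⟩
      have e : r • x - φ (d * p) = (r - φ d) * x + φ d * (x - φ p) := by
        rw [smul_eq_mul, map_mul]; ring
      rw [e, pow_succ', Ideal.map_mul]
      refine add_mem (Ideal.mul_mem_mul hd hx0) ?_
      rw [← Ideal.map_mul, ← pow_succ']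
      exact Ideal.mul_mem_left _ _ hp

instance projSpaceOver (N : ℕ) (R : Type u) [CommRing R] :
    (CohB1.ProjSpace N R).Over (Spec (CommRingCat.of R)) := ⟨CohB1.ProjSpace.toSpec N R⟩

set_option maxHeartbeats 1000000 in
/-- An ample system of invertible modules embeds an adic system into a projective space. -/
theorem exists_maps [IsNoetherianRing A] (hp : IsProper (S.p 0)) (L : ∀ k, (S.X k).Modules)
    (hL : ∀ k, PicF.IsInvertible (L k))
    (φ : ∀ k, Nonempty ((Scheme.Modules.pullback (S.i k)).obj (L (k + 1)) ≅ L k)) (ha : CohB1.IsAmple (L 0)) :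
    ∃ (N : ℕ) (r : ∀ k, S.X k ⟶ CohB1.ProjSpace N A),
      (∀ k, IsClosedImmersion (r k)) ∧
      (∀ k, r k ≫ CohB1.ProjSpace.toSpec N A = S.X k ↘ Spec (CommRingCat.of A)) ∧
      ∀ k, S.i k ≫ r (k + 1) = r k := by
  haveI := S.isProper_str₀ hp
  obtain ⟨n₀, hn₀⟩ := exists_lift_sections S hp L hL φ ha
  obtain ⟨N, r₀, hr₀, hr₀f, hb⟩ := AmpleEmbed.exists_closedImmersion_pow (S.X 0 ↘ Spec (CommRingCat.of A))
    (AmpleX.isAmple_tensorPow ha (n := n₀ + 1) n₀.succ_pos)
  haveI := hr₀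
  obtain ⟨m, hm, ⟨τ₀⟩⟩ : ∃ m, n₀ ≤ m ∧
      Nonempty ((Scheme.Modules.pullback r₀).obj (Twist.twistProjSpace N A 1) ≅ CohB1.tensorPow (L 0) m) := by
    rcases isEmpty_or_nonempty (S.X 0) with hX | hX
    · exact ⟨n₀, le_rfl, ⟨(Div21Lib.iso_unit_of_isEmpty _).some ≪≫ (Div21Lib.iso_unit_of_isEmpty _).some.symm⟩⟩
    · obtain ⟨b, hb0, ⟨τ⟩⟩ := hb hX
      refine ⟨(n₀ + 1) * b, le_trans n₀.le_succ (Nat.le_mul_of_pos_right _ hb0), ?_⟩
      obtain ⟨e⟩ : Nonempty (CohB1.tensorPow (CohB1.tensorPow (L 0) (n₀ + 1)) b ≅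
          CohB1.tensorPow (L 0) ((n₀ + 1) * b)) := cl_eq_iff.1 (by
        rw [cl_tensorPow, cl_tensorPow, cl_tensorPow, pow_mul])
      exact ⟨τ ≪≫ e⟩
  let O1 := Twist.twistProjSpace N A 1
  let P := fun k => CohB1.tensorPow (L k) m
  have hP : ∀ k, PicF.IsInvertible (P k) := fun k => InvX.isInvertible_tensorPow (hL k) m
  have hw : ∀ k, Nonempty ((Scheme.Modules.pullback (S.i k)).obj (P (k + 1)) ≅ P k) := fun k => cl_eq_iff.1 (by
    show PicF.pullCl (S.i k) (PicF.cl (CohB1.tensorPow (L (k + 1)) m)) = PicF.cl (CohB1.tensorPow (L k) m)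
    rw [cl_tensorPow, cl_tensorPow, pullCl_pow]
    exact congrArg (· ^ m) (cl_eq_iff.2 (φ k)))
  let w := fun k => (hw k).some
  have hlift : ∀ k (y : Γ(P k, ⊤)), ∃ x : Γ(P (k + 1), ⊤),
      (w k).hom.app ⊤ (FComplLib.pullTop (S.i k) (P (k + 1)) x) = y := fun k y => by
    obtain ⟨x, hx⟩ := hn₀ m hm k ((w k).inv.app ⊤ y)
    exact ⟨x, (congrArg ((w k).hom.app ⊤) hx).trans congr(($((w k).inv_hom_id)).app ⊤ y)⟩
  choose lift hlift using hlift
  let s₀ : Fin (N + 1) → Γ(P 0, ⊤) := fun l =>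
    τ₀.hom.app ⊤ (ProjUP.pullSec r₀ O1 (ProjUP.coord N A l))
  let s : ∀ k, Fin (N + 1) → Γ(P k, ⊤) := fun k =>
    Nat.rec (motive := fun k => Fin (N + 1) → Γ(P k, ⊤)) s₀ (fun k sk l => lift k (sk l)) k
  have hs : ∀ k l, (w k).hom.app ⊤ (FComplLib.pullTop (S.i k) (P (k + 1)) (s (k + 1) l)) = s k l :=
    fun k l => hlift k (s k l)
  have hcov : ∀ k (x : S.X k), ∃ l, x ∈ H23.TrivBasic.locus (s k l) := by
    intro k
    induction k with
    | zero =>
      intro x
      obtain ⟨l, hl⟩ := Opens.mem_iSup.1 ((AmpleEmbed.iSup_basicOpen_X N A).ge (Set.mem_univ (r₀ x)))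
      exact ⟨l, (AmpleEmbed.preimage_chart r₀ τ₀ l (s := s 0 l) rfl).le hl⟩
    | succ k ih =>
      intro x
      haveI := surjective_i S k
      obtain ⟨y, rfl⟩ := (S.i k).surjective x
      obtain ⟨l, hl⟩ := ih y
      refine ⟨l, ?_⟩
      rw [← hs k l, locus_app_iso] at hl
      exact (H23.TrivBasic.locus_pullElt (hP (k + 1)) (S.i k) (s (k + 1) l)).le hl
  have hmap : ∀ k, ∃ (r : S.X k ⟶ CohB1.ProjSpace N A)
      (_ : r ≫ CohB1.ProjSpace.toSpec N A = S.X k ↘ Spec (CommRingCat.of A))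
      (τ : (Scheme.Modules.pullback r).obj O1 ≅ P k),
      ∀ l, τ.hom.app ⊤ (ProjUP.pullSec r O1 (ProjUP.coord N A l)) = s k l := fun k =>
    S3572.result N _ (P k) (hP k) (s k) (VeryAmple.generatedBy_of_locus (s k) (hcov k))
  choose r hr τ hτ using hmap
  have hcomp : ∀ k, S.i k ≫ r (k + 1) = r k := by
    intro k
    refine S3573.result N _ _ (by rw [Category.assoc, hr, hr, S.i_over])
      (((Scheme.Modules.pullbackComp (S.i k) (r (k + 1))).app O1).symm ≪≫
        (Scheme.Modules.pullback (S.i k)).mapIso (τ (k + 1)) ≪≫ w k ≪≫ (τ k).symm) fun l => ?_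
    let c : Γ(O1, ⊤) := ProjUP.coord N A l
    show (τ k).inv.app ⊤ ((w k).hom.app ⊤ (((Scheme.Modules.pullback (S.i k)).map (τ (k + 1)).hom).app ⊤
      (((Scheme.Modules.pullbackComp (S.i k) (r (k + 1))).inv.app O1).app ⊤
        (FComplLib.pullTop (S.i k ≫ r (k + 1)) O1 c)))) = FComplLib.pullTop (r k) O1 c
    have h1 : ((Scheme.Modules.pullbackComp (S.i k) (r (k + 1))).inv.app O1).app ⊤
        (FComplLib.pullTop (S.i k ≫ r (k + 1)) O1 c) =
        FComplLib.pullTop (S.i k) _ (FComplLib.pullTop (r (k + 1)) O1 c) := by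
      rw [← FComplLib.pullTop_comp]
      exact congr(($((Scheme.Modules.pullbackComp (S.i k) (r (k + 1))).hom_inv_id_app O1)).app ⊤ _)
    rw [h1, FComplLib.pullTop_naturality]
    have h2 : (τ (k + 1)).hom.app ⊤ (FComplLib.pullTop (r (k + 1)) O1 c) = s (k + 1) l := hτ (k + 1) l
    rw [h2, hs]
    have h3 : (τ k).hom.app ⊤ (FComplLib.pullTop (r k) O1 c) = s k l := hτ k l
    rw [← h3]
    exact congr(($((τ k).hom_inv_id)).app ⊤ _)
  have hr0eq : r 0 = r₀ := by
    refine S3573.result N _ _ (by rw [hr, hr₀f]) (τ 0 ≪≫ τ₀.symm) fun l => ?_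
    show τ₀.inv.app ⊤ ((τ 0).hom.app ⊤ _) = _
    rw [hτ 0 l]
    exact congr(($(τ₀.hom_inv_id)).app ⊤ _)
  have hj : ∀ k, S.j k ≫ r k = r 0 := by
    intro k
    induction k with
    | zero => exact Category.id_comp _
    | succ k ih =>
      show (S.j k ≫ S.i k) ≫ r (k + 1) = r 0
      rw [Category.assoc, hcomp, ih]
  refine ⟨N, r, fun k => ?_, hr, hcomp⟩
  haveI : IsClosedImmersion (S.j k ≫ r k) := by rw [hj, hr0eq]; infer_instance
  exact isClosedImmersion_level S k (r k) (hr k)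

end Groth.Agent.H9Existence
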