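import Groth.Agent.H9Existence.Quot
import Groth.Agent.CohBasic.PushSupp
import Mathlib.RingTheory.Jacobson.Ideal
import Mathlib.RingTheory.Nakayama

/-! Points of a proper scheme near the vanishing locus of an ideal in the Jacobson radical of the base. -/

set_option autoImplicit false
set_option linter.style.haveILetI false
set_option backward.isDefEq.respectTransparency false
set_option backward.isDefEq.respectTransparency.types false

universe u

open CategoryTheory CategoryTheory.Limits AlgebraicGeometry TopologicalSpace Opposite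

noncomputable section

namespace Groth.Agent.H9Existence

open Groth.Agent
open Groth.Agent.AmpleVan (scal)

variable {A : Type u} [CommRing A] {X Z : Scheme.{u}} [X.Over (Spec (CommRingCat.of A))] {J : Ideal A}
  {i : Z ⟶ X} [IsClosedImmersion i] {q : Z ⟶ Spec (CommRingCat.of (A ⧸ J))}
  (sq : IsPullback i q (X ↘ Spec (CommRingCat.of A)) (Spec.map (CommRingCat.ofHom (Ideal.Quotient.mk J))))

include sq in
omit [IsClosedImmersion i] in
theorem range_of_isPullback :
    Set.range i = (X ↘ Spec (CommRingCat.of A)) ⁻¹' PrimeSpectrum.zeroLocus (J : Set A) := by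
  have hr : Set.range i = (X ↘ Spec (CommRingCat.of A)) ⁻¹'
      Set.range (Spec.map (CommRingCat.ofHom (Ideal.Quotient.mk J))) := by
    rw [← sq.isoPullback_hom_fst, ← Scheme.Pullback.range_fst]
    simp only [Scheme.Hom.comp_base, TopCat.coe_comp, Set.range_comp]
    rw [Set.range_eq_univ.2 sq.isoPullback.hom.surjective, Set.image_univ]
  rw [hr]
  change _ ⁻¹' Set.range (PrimeSpectrum.comap (Ideal.Quotient.mk J)) = _
  rw [range_comap_of_surjective _ _ Ideal.Quotient.mk_surjective, Ideal.mk_ker]

variable (hJ : J ≤ Ideal.jacobson ⊥)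

include sq hJ in
omit [IsClosedImmersion i] in
/-- A point whose closure has closed image specialises into the reduction. -/
theorem exists_specializes_range_aux (x : X)
    (hcl : IsClosed ((X ↘ Spec (CommRingCat.of A)) '' closure {x})) : ∃ z ∈ Set.range i, x ⤳ z := by
  let π := X ↘ Spec (CommRingCat.of A)
  obtain ⟨m, hm, hle⟩ := Ideal.exists_le_maximal (π x).asIdeal (π x).isPrime.ne_top
  obtain ⟨z, hz, hzm⟩ : (⟨m, hm.isPrime⟩ : Spec (CommRingCat.of A)) ∈ π '' closure {x} :=
    ((PrimeSpectrum.le_iff_specializes (π x) ⟨m, hm.isPrime⟩).1 hle).mem_closed hcl ⟨x, subset_closure rfl, rfl⟩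
  refine ⟨z, ?_, specializes_iff_mem_closure.2 hz⟩
  rw [range_of_isPullback sq, Set.mem_preimage, hzm, PrimeSpectrum.mem_zeroLocus]
  exact fun a ha => (Ideal.mem_sInf.1 (hJ ha)) ⟨bot_le, hm⟩

include sq in
/-- A coherent module without reduction vanishes if its support specialises into the reduction. -/
theorem isZero_of_le_smul_aux {C : X.Modules} (hC : Coh.IsCoh C)
    (h : ∀ U : X.affineOpens, (⊤ : Submodule Γ(X, U.1) Γ(C, U.1)) ≤ J.map (scal A U.1) • ⊤)
    (hsp : ∀ x ∈ CohB1.support C, ∃ z ∈ Set.range i, x ⤳ z) : IsZero C := by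
  have key : ∀ x : X, ∃ D : X.affineOpens, x ∈ D.1 ∧ Subsingleton Γ(C, D.1) := by
    intro x
    by_cases hx : x ∈ CohB1.support C
    swap
    · obtain ⟨_, ⟨U, hU, rfl⟩, hxU, hUC⟩ := X.isBasis_affineOpens.exists_subset_of_mem_open
        (show x ∈ (CohB1.support C)ᶜ from hx) (QCoh.isClosed_support_of_ft hC.2).isOpen_compl
      exact ⟨⟨U, hU⟩, hxU,
        CohBasic.subsingleton_sections_of_stalks _ fun y hy => not_not.1 fun hne => hUC hy hne⟩
    obtain ⟨_, ⟨z, rfl⟩, hxz⟩ := hsp x hx
    obtain ⟨_, ⟨U, hU, rfl⟩, hzU, -⟩ :=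
      X.isBasis_affineOpens.exists_subset_of_mem_open (Set.mem_univ (i z)) isOpen_univ
    have hU' : IsAffineOpen U := hU
    haveI := QCoh.finite_of_isFT hC.1 hC.2 hU'
    obtain ⟨r, hr1, hr⟩ := Submodule.exists_sub_one_mem_and_smul_eq_zero_of_fg_of_le_smul
      (J.map (scal A U)) (⊤ : Submodule Γ(X, U) Γ(C, U)) Module.Finite.fg_top (h ⟨U, hU'⟩)
    have hz : i z ∈ X.basicOpen r := by
      have h0 : i.app U (r - 1) = 0 := by
        rw [← AmpleVan.ker_ideal_of_isPullback sq ⟨U, hU'⟩, FComplLib.ideal_ker] at hr1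
        exact hr1
      rw [map_sub, map_one, sub_eq_zero] at h0
      have h1 : z ∈ i ⁻¹ᵁ X.basicOpen r := by
        rw [Scheme.preimage_basicOpen, h0, Scheme.basicOpen_of_isUnit _ isUnit_one]
        exact hzU
      exact h1
    refine ⟨⟨X.basicOpen r, hU'.basicOpen r⟩, hxz.mem_open (X.basicOpen r).2 hz, subsingleton_of_forall_eq 0 fun s => ?_⟩
    obtain ⟨n, t, ht⟩ := QCoh.exists_pow_smul_eq_map hC.1 hU' r s
    have e := congrArg (C.presheaf.map (homOfLE (X.basicOpen_le r)).op) (hr t trivial)
    rw [map_zero, QCoh.map_smul'] at e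
    have hu : IsUnit (X.presheaf.map (homOfLE (X.basicOpen_le r)).op r) :=
      RingedSpace.isUnit_res_basicOpen _ r
    rw [hu.smul_eq_zero, ht] at e
    exact (hu.pow n).smul_eq_zero.1 e
  choose D hD hs using key
  exact QCoh.isZero_of_cover hC.1 (fun x => (D x).1) (fun x => (D x).2) (fun x => ⟨x, hD x⟩) hs

variable [UniversallyClosed (X ↘ Spec (CommRingCat.of A))]

include sq hJ in
omit [IsClosedImmersion i] in
/-- Every point specialises into the reduction. -/
theorem exists_specializes_range (x : X) : ∃ z ∈ Set.range i, x ⤳ z :=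
  exists_specializes_range_aux sq hJ x ((X ↘ Spec (CommRingCat.of A)).isClosedMap _ isClosed_closure)

include sq hJ in
/-- A coherent module without reduction vanishes. -/
theorem isZero_of_le_smul {C : X.Modules} (hC : Coh.IsCoh C)
    (h : ∀ U : X.affineOpens, (⊤ : Submodule Γ(X, U.1) Γ(C, U.1)) ≤ J.map (scal A U.1) • ⊤) : IsZero C :=
  isZero_of_le_smul_aux sq hC h fun x _ => exists_specializes_range sq hJ x

end Groth.Agent.H9Existence
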