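import Groth.Agent.H9Existence.Quot
import Groth.Agent.FComplLib.LocFreeLevels
import Groth.Agent.AmpleVan.NakayamaFibre
import Groth.Agent.InvX.Pullback
import Groth.Agent.ParaFX.FlatDesc
import Groth.Agent.H23.PicMul
import Groth.Agent.KRRReg.LocFree
import Groth.Agent.S0004
import Groth.Agent.H9Existence.Nakayama

/-! Algebraization of compatible systems of invertible modules. -/

set_option autoImplicit false
set_option linter.style.haveILetI false
set_option backward.isDefEq.respectTransparency false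
set_option backward.isDefEq.respectTransparency.types false

universe u

open CategoryTheory CategoryTheory.Limits AlgebraicGeometry TopologicalSpace Opposite

noncomputable section

namespace Groth.Agent.H9Existence

open Groth.Agent
open Groth.Agent.AmpleVan (scal)

theorem completionToX_pow_ker {X : Scheme.{u}} {Z : Scheme.{u}} (i : Z ⟶ X) [IsClosedImmersion i]
    (𝓘 : X.IdealSheafData) (n : ℕ) (h : i.ker = 𝓘 ^ (n + 1)) :
    ∃ e : (FSch.completionAlong X 𝓘).X n ≅ Z, e.hom ≫ i = FSch.completionToX X 𝓘 n := by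
  change ∃ e : (𝓘 ^ (n + 1)).subscheme ≅ Z, e.hom ≫ i = (𝓘 ^ (n + 1)).subschemeι
  rw [← h]
  exact ⟨(asIso i.toImage).symm, (IsIso.inv_comp_eq _).2 i.toImage_imageι.symm⟩

variable {A : Type u} [CommRing A] [IsNoetherianRing A] (I : Ideal A) [IsAdicComplete I A]
  {X : Scheme.{u}} [X.Over (Spec (CommRingCat.of A))] [IsProper (X ↘ Spec (CommRingCat.of A))]
  {Z : ℕ → Scheme.{u}} (i : ∀ n, Z n ⟶ X) {q : ∀ n, Z n ⟶ Spec (CommRingCat.of (A ⧸ I ^ (n + 1)))}
  (sq : ∀ n, IsPullback (i n) (q n) (X ↘ Spec (CommRingCat.of A))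
    (Spec.map (CommRingCat.ofHom (Ideal.Quotient.mk (I ^ (n + 1))))))
  (t : ∀ n, Z n ⟶ Z (n + 1)) (ht : ∀ n, t n ≫ i (n + 1) = i n)

include sq ht in
/-- A compatible system of coherent modules on the thickenings is a completion. -/
theorem exists_coh_of_system (L : ∀ n, (Z n).Modules) (hL : ∀ n, Coh.IsCoh (L n))
    (e : ∀ n, (Scheme.Modules.pullback (t n)).obj (L (n + 1)) ≅ L n) :
    ∃ M : X.Modules, Coh.IsCoh M ∧ ∀ n, Nonempty ((Scheme.Modules.pullback (i n)).obj M ≅ L n) := by
  haveI : IsLocallyNoetherian X := LocallyOfFiniteType.isLocallyNoetherian (X ↘ Spec (CommRingCat.of A))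
  haveI : ∀ n, IsClosedImmersion (i n) := fun n => MorphismProperty.of_isPullback (P := @IsClosedImmersion) (sq n).flip
    (IsClosedImmersion.spec_of_surjective _ Ideal.Quotient.mk_surjective)
  let P : ℕ → X.Modules := fun n => (Scheme.Modules.pushforward (i n)).obj (L n)
  have hP : ∀ n, Coh.IsCoh (P n) := fun n => QCoh.isCoh_pushforward_finite (i n) (hL n)
  let w : ∀ n, (Scheme.Modules.pullback (i n)).obj (P (n + 1)) ≅ L n := fun n =>
    (Scheme.Modules.pullbackCongr (ht n).symm).app _ ≪≫ ((Scheme.Modules.pullbackComp (t n) (i (n + 1))).app _).symm ≪≫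
      (Scheme.Modules.pullback (t n)).mapIso
        (@asIso _ _ _ _ _ (AmpleVan.isIso_counit (i (n + 1)) (hL (n + 1)).1)) ≪≫ e n
  let g : ∀ n, P (n + 1) ⟶ P n := fun n =>
    (Scheme.Modules.pullbackPushforwardAdjunction (i n)).unit.app (P (n + 1)) ≫
      (Scheme.Modules.pushforward (i n)).map (w n).hom
  let G : ℕᵒᵖ ⥤ X.Modules := Functor.ofOpSequence (X := P) g
  have hGmap : ∀ n, G.map (homOfLE (Nat.le_succ n)).op = g n := fun n => Functor.ofOpSequence_map_homOfLE_succ g n
  have hG : Formal.IsCohFormal I G := by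
    refine ⟨hP, fun n => killedBy_push (sq n) (hL n).1, fun n => ?_⟩
    obtain ⟨h0, hiso⟩ := isQuot_unit (sq n) (hP (n + 1)).1
    have h1 : Formal.smulFamily (I ^ (n + 1)) (P (n + 1)) ≫ g n = 0 := by
      rw [← Category.assoc]
      exact (congrArg (· ≫ _) h0).trans zero_comp
    rw [hGmap]
    refine ⟨h1, ?_⟩
    change IsIso (cokernel.desc _ (g n) h1)
    haveI := hiso
    have e1 : cokernel.desc _ (g n) h1 = cokernel.desc _ _ h0 ≫ (Scheme.Modules.pushforward (i n)).map (w n).hom :=
      coequalizer.hom_ext (by simp [g])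
    rw [e1]
    infer_instance
  obtain ⟨M, hM, ⟨c⟩⟩ := (S0004.result A I X).2 G hG
  refine ⟨M, hM, fun n => ?_⟩
  obtain ⟨h0, hiso⟩ := isQuot_unit (sq n) hM.1
  haveI := hiso
  let c' : Formal.modPow I (n + 1) M ≅ P n := c.app (op n)
  let d : (Scheme.Modules.pushforward (i n)).obj ((Scheme.Modules.pullback (i n)).obj M) ≅ P n :=
    (asIso (cokernel.desc _ _ h0)).symm ≪≫ c'
  haveI := AmpleVan.isIso_counit (i n) (QCoh.isQCoh_pullback (i n) hM.1)
  haveI := AmpleVan.isIso_counit (i n) (hL n).1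
  exact ⟨(asIso ((Scheme.Modules.pullbackPushforwardAdjunction (i n)).counit.app _)).symm ≪≫
    (Scheme.Modules.pullback (i n)).mapIso d ≪≫ asIso ((Scheme.Modules.pullbackPushforwardAdjunction (i n)).counit.app _)⟩

include sq ht in
/-- A compatible system of invertible modules on the thickenings comes from an invertible module. -/
theorem exists_invertible_of_system' (L : ∀ n, (Z n).Modules)
    (hL : ∀ n, PicF.IsInvertible (L n)) (e : ∀ n, (Scheme.Modules.pullback (t n)).obj (L (n + 1)) ≅ L n) :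
    ∃ M : X.Modules, PicF.IsInvertible M ∧ ∀ n, Nonempty ((Scheme.Modules.pullback (i n)).obj M ≅ L n) := by
  haveI : IsLocallyNoetherian X := LocallyOfFiniteType.isLocallyNoetherian (X ↘ Spec (CommRingCat.of A))
  haveI : ∀ n, IsClosedImmersion (i n) := fun n => MorphismProperty.of_isPullback (P := @IsClosedImmersion) (sq n).flip
    (IsClosedImmersion.spec_of_surjective _ Ideal.Quotient.mk_surjective)
  obtain ⟨M, hM, hMn⟩ := exists_coh_of_system I i sq t ht L
    (fun n => KRRReg.isCoh_of_finLocFree (ParaFX.FlatDesc.isFinLocFree_of_invertible (hL n))) e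
  refine ⟨M, ?_, hMn⟩
  let 𝓘 := (i 0).ker
  have hker : ∀ n, (i n).ker = 𝓘 ^ (n + 1) := fun n => by
    refine Scheme.IdealSheafData.ext (funext fun U => ?_)
    rw [Scheme.IdealSheafData.ideal_pow, Pi.pow_apply, AmpleVan.ker_ideal_of_isPullback (sq n) U,
      AmpleVan.ker_ideal_of_isPullback (sq 0) U, ← Ideal.map_pow, zero_add, pow_one]
  have hlev : ∀ n, FlatMod.IsFinLocFreeOfRank 1 ((Scheme.Modules.pullback (FSch.completionToX X 𝓘 n)).obj M) := by
    intro n
    obtain ⟨ε, hε⟩ := completionToX_pow_ker (i n) 𝓘 n (hker n)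
    have hinv : PicF.IsInvertible ((Scheme.Modules.pullback (FSch.completionToX X 𝓘 n)).obj M) :=
      H23.PicMul.isInvertible_of_iso (((Scheme.Modules.pullback ε.hom).mapIso (hMn n).some).symm ≪≫
        (Scheme.Modules.pullbackComp ε.hom (i n)).app M ≪≫ (Scheme.Modules.pullbackCongr hε).app M)
        (PicClLib.isInvertible_pullback _ (hL n))
    intro y
    obtain ⟨U, hy, ⟨f⟩⟩ := hinv y
    exact ⟨U, hy, ⟨f ≪≫ (coproductUniqueIso (fun _ : Fin 1 => Coh.structureModule (U : Scheme.{u}))).symm⟩⟩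
  intro x
  obtain ⟨z, hz, hxz⟩ := exists_specializes_range (sq 0)
    (by rw [zero_add, pow_one]; exact IsAdicComplete.le_jacobson_bot I) x
  have hz' : z ∈ (𝓘.support : Set X) := by
    rw [(i 0).support_ker, IsClosed.closure_eq (i 0).isClosedEmbedding.isClosed_range]
    exact hz
  obtain ⟨O, hzO, ⟨f⟩⟩ := FComplLib.exists_free_of_levels hM 𝓘 1 hlev hz'
  exact ⟨O, hxz.mem_open O.2 hzO, ⟨f ≪≫ coproductUniqueIso _⟩⟩

include sq ht in
/-- A compatible system of invertible modules on the thickenings comes from an invertible module. -/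
theorem exists_invertible_of_system [IsLocalRing A] (_hI : I ≤ IsLocalRing.maximalIdeal A) (L : ∀ n, (Z n).Modules)
    (hL : ∀ n, PicF.IsInvertible (L n)) (e : ∀ n, (Scheme.Modules.pullback (t n)).obj (L (n + 1)) ≅ L n) :
    ∃ M : X.Modules, PicF.IsInvertible M ∧ ∀ n, Nonempty ((Scheme.Modules.pullback (i n)).obj M ≅ L n) :=
  exists_invertible_of_system' I i sq t ht L hL e

end Groth.Agent.H9Existence
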