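import Groth.Agent.S10960
import Groth.Agent.S0844
import Groth.Agent.S11763
import Groth.Agent.S3572
import Groth.Agent.S3573
import Groth.Agent.Lib.PnDualCoh
import Groth.Agent.ChowGen.Sum
import Groth.Agent.AmpleVan.LiftFibre
import Groth.Agent.RelPicGrp.SmoothH2
import Groth.Agent.PicGlue.ProjSpaceBC
import Groth.Agent.H9Existence.IsoFibre
import Groth.Agent.H9Existence.Embed

/-! Lifting an identification of the closed fibre with projective space. -/

set_option autoImplicit false
set_option linter.style.haveILetI false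
set_option backward.isDefEq.respectTransparency false
set_option backward.isDefEq.respectTransparency.types false

universe u

open CategoryTheory CategoryTheory.Limits AlgebraicGeometry TopologicalSpace Opposite

noncomputable section

namespace Groth.Agent.H9Existence

open Groth.Agent

attribute [local instance] MvPolynomial.algebraMvPolynomial

/-- Projective space commutes with base change. -/
theorem exists_baseChange_proj (n : ℕ) (R S : Type u) [CommRing R] [CommRing S] [Algebra R S] :
    ∃ b : CohB1.ProjSpace n S ⟶ CohB1.ProjSpace n R,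
      IsPullback b (CohB1.ProjSpace.toSpec n S) (CohB1.ProjSpace.toSpec n R)
        (Spec.map (CommRingCat.ofHom (algebraMap R S))) := by
  let φ : CohB1.polyGrading n R →+*ᵍ CohB1.polyGrading n S :=
    { MvPolynomial.map (algebraMap R S) with
      map_mem := fun {i x} hx => by
        rw [MvPolynomial.mem_homogeneousSubmodule] at hx ⊢
        exact hx.map _ }
  have hφA : ∀ b, φ b = algebraMap (MvPolynomial (Fin (n + 1)) R) (MvPolynomial (Fin (n + 1)) S) b :=
    fun _ => rfl
  have hφ : HomogeneousIdeal.irrelevant (CohB1.polyGrading n S) ≤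
      (HomogeneousIdeal.irrelevant (CohB1.polyGrading n R)).map φ := by
    intro a ha
    have h1 := SegreX.irrelevant_le_span n S ha
    refine (Ideal.span_le.2 ?_ : Ideal.span _ ≤ ((HomogeneousIdeal.irrelevant (CohB1.polyGrading n R)).map φ).toIdeal) h1
    rintro _ ⟨i, rfl⟩
    have hX : (MvPolynomial.X i : MvPolynomial (Fin (n + 1)) R) ∈
        HomogeneousIdeal.irrelevant (CohB1.polyGrading n R) :=
      HomogeneousIdeal.mem_irrelevant_of_mem _ one_pos (MvPolynomial.isHomogeneous_X _ i)
    have h2 := Ideal.mem_map_of_mem (φ : MvPolynomial (Fin (n + 1)) R →+* MvPolynomial (Fin (n + 1)) S) hX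
    rw [show (φ : MvPolynomial (Fin (n + 1)) R →+* MvPolynomial (Fin (n + 1)) S) (MvPolynomial.X i) =
      MvPolynomial.X i from MvPolynomial.map_X _ i] at h2
    exact h2
  exact ⟨_, Proj16.BaseChange.isPullback_map φ hφA hφ⟩

theorem nonempty_projSpace (n : ℕ) (K : Type u) [Field K] : Nonempty (CohB1.ProjSpace n K) := by
  obtain ⟨e, -⟩ := PicGlue.exists_projSpace_iso n K
  exact ⟨e.inv (ChowGen.unitSect (Spec (CommRingCat.of K)) (0 : Fin (n + 1))
    (IsLocalRing.closedPoint K))⟩

/-- An invertible module on projective space with a section vanishing not everywhere has no higher cohomology. -/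
theorem subsingleton_HH_of_section (n : ℕ) (K : Type u) [Field K] {M : (CohB1.ProjSpace n K).Modules}
    (hM : PicF.IsInvertible M) (s : Γ(M, ⊤)) {x : CohB1.ProjSpace n K}
    (hx : x ∈ H23.TrivBasic.locus s) {q : ℕ} (hq : 0 < q) :
    Subsingleton (Coh.HH (CohB1.ProjSpace n K) M q) := by
  rcases Nat.eq_zero_or_pos n with rfl | hn
  · exact PnDual.subsingleton_HH_above (ProjUPX.isQCoh_of_isInvertible hM) q hq
  obtain ⟨d, ⟨e⟩, -⟩ := S10960.result K n hn M hM
  rcases lt_or_ge d 0 with hd | hd
  · exfalso
    have h := S0844.result K n d 0 (fun h => by omega) (fun h => by omega)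
    have hs : e.hom.app ⊤ s = 0 :=
      (Sheaf.H.equiv₀ (Coh.toAb (Twist.twistProjSpace n K d)) isTerminalTop).symm.injective
        (@Subsingleton.elim _ h _ _)
    rw [← locus_app_iso e, hs] at hx
    obtain ⟨U, hxU, hU⟩ := H23.TrivBasic.mem_locus_iff.1 hx
    rw [map_zero] at hU
    have h1 : (1 : Γ(CohB1.ProjSpace n K, U)) = 0 := hU.coord_unique le_rfl (by simp)
    haveI : Subsingleton Γ(CohB1.ProjSpace n K, U) := subsingleton_of_zero_eq_one h1.symm
    refine (not_isUnit_zero : ¬ IsUnit (0 : (CohB1.ProjSpace n K).presheaf.stalk x)) ?_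
    rw [← map_zero ((CohB1.ProjSpace n K).presheaf.germ U x hxU).hom,
      Subsingleton.elim (0 : Γ(CohB1.ProjSpace n K, U)) 1, map_one]
    exact isUnit_one
  · exact QCoh.subsingleton_HH_of_iso e.symm q (S0844.result K n d q (fun h => by omega) (fun h => by omega))

/-- Cohomology vanishing passes along isomorphisms of schemes over a field. -/
theorem subsingleton_HH_pullback_iso {K : Type u} [Field K] {Y Y' : Scheme.{u}} (q : Y ⟶ Spec (CommRingCat.of K))
    [IsSeparated q] [QuasiCompact q] (g : Y' ⟶ Y) [IsIso g] {M : Y.Modules} (hM : Coh.IsQCoh M) (n : ℕ)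
    (h : Subsingleton (Coh.HH Y M n)) :
    Subsingleton (Coh.HH Y' ((Scheme.Modules.pullback g).obj M) n) := by
  letI : Y.Over (Spec (CommRingCat.of K)) := ⟨q⟩
  letI : Y'.Over (Spec (CommRingCat.of K)) := ⟨g ≫ q⟩
  haveI : CompactSpace Y := QuasiCompact.compactSpace_of_compactSpace q
  haveI : QuasiSeparatedSpace Y := quasiSeparatedSpace_of_quasiSeparated q
  have hpb : IsPullback g (Y' ↘ Spec (CommRingCat.of K)) (Y ↘ Spec (CommRingCat.of K))
      (Spec.map (CommRingCat.ofHom (algebraMap K K))) := by
    rw [Algebra.algebraMap_self, show CommRingCat.ofHom (RingHom.id K) = 𝟙 (CommRingCat.of K) from rfl, Spec.map_id]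
    exact IsPullback.of_horiz_isIso ⟨(Category.comp_id _).symm⟩
  haveI := hM
  obtain ⟨e⟩ := Groth.Agent.S0034.result K K Y Y' g hpb M n
  haveI : Subsingleton (TensorProduct K K (Coh.HH Y M n)) := (TensorProduct.lid K _).toEquiv.subsingleton
  exact e.toEquiv.symm.subsingleton

variable (A : Type u) [CommRing A] [IsLocalRing A] [IsNoetherianRing A]
  [IsAdicComplete (IsLocalRing.maximalIdeal A) A]

/-- Sections of an invertible module lift from the closed fibre when the first cohomology vanishes there. -/
theorem exists_lift_section {X : Scheme.{u}} [X.Over (Spec (CommRingCat.of A))]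
    [IsProper (X ↘ Spec (CommRingCat.of A))] [Flat (X ↘ Spec (CommRingCat.of A))]
    {Z : Scheme.{u}} {i : Z ⟶ X} [IsClosedImmersion i]
    {q : Z ⟶ Spec (CommRingCat.of (A ⧸ IsLocalRing.maximalIdeal A))}
    (sq : IsPullback i q (X ↘ Spec (CommRingCat.of A))
      (Spec.map (CommRingCat.ofHom (Ideal.Quotient.mk (IsLocalRing.maximalIdeal A)))))
    {L : X.Modules} (hL : PicF.IsInvertible L)
    (h1 : Subsingleton (Coh.HH Z ((Scheme.Modules.pullback i).obj L) 1))
    (y : Γ((Scheme.Modules.pullback i).obj L, ⊤)) : ∃ x : Γ(L, ⊤), FComplLib.pullTop i L x = y := by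
  let e₁ : (Scheme.Modules.pullback i).obj (Coh.structureModule X) ≅ Coh.structureModule _ := CurveBC.unitIso i
  let c : (SheafHomX.hom (Coh.structureModule _)).obj ((Scheme.Modules.pullback i).obj L) ≅
      (SheafHomX.hom ((Scheme.Modules.pullback i).obj (Coh.structureModule X))).obj ((Scheme.Modules.pullback i).obj L) :=
    { hom := (SheafHomX.homMap e₁.hom).app _
      inv := (SheafHomX.homMap e₁.inv).app _
      hom_inv_id := by rw [← SheafHomX.homMap_comp, Iso.inv_hom_id, SheafHomX.homMap_id]
      inv_hom_id := by rw [← SheafHomX.homMap_comp, Iso.hom_inv_id, SheafHomX.homMap_id] }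
  let adj := Scheme.Modules.pullbackPushforwardAdjunction i
  let v : Coh.structureModule X ⟶ (Scheme.Modules.pushforward i).obj ((Scheme.Modules.pullback i).obj L) :=
    InvX.ofSect y
  obtain ⟨u, hu⟩ := AmpleVan.exists_lift_modPow A (Coh.structureModule X) L
    (H23.PullPush.isFinLocFree_of_isInvertible InvX.isInvertible_structureModule)
    (H23.PullPush.isFinLocFree_of_isInvertible hL) sq
    (AmpleVan.subsingleton_of_iso (((SheafHomX.unitIso _).app _).symm ≪≫ c) 1 h1)
    ((adj.homEquiv _ _).symm v)
  have hv : u ≫ adj.unit.app L = v := by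
    rw [← (adj.homEquiv _ _).apply_symm_apply v, ← hu, adj.homEquiv_unit]
    exact adj.unit.naturality u
  refine ⟨InvX.one u, ?_⟩
  show InvX.one (u ≫ adj.unit.app L) = y
  rw [hv]
  exact InvX.one_ofSect _

end Groth.Agent.H9Existence
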