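import Groth.Agent.H9Existence.Quot
import Groth.Agent.AmpleVan.AdicMod
import Groth.Agent.AmpleVan.Criterion
import Groth.Agent.FFun.PropSupp
import Groth.Agent.SheafHomX.Main
import Groth.Agent.S0057
import Groth.Agent.InvX.Pullback
import Groth.Agent.ParaFX.FlatDesc
import Groth.Agent.KRRReg.LocFree
import Mathlib.RingTheory.Nakayama

/-! Ampleness on an algebraization. -/

set_option autoImplicit false
set_option linter.style.haveILetI false
set_option backward.isDefEq.respectTransparency false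
set_option backward.isDefEq.respectTransparency.types false

universe u

open CategoryTheory CategoryTheory.Limits AlgebraicGeometry TopologicalSpace Opposite
open Groth.Agent.H23.PicMul

attribute [local instance] HasDerivedCategory.standard

noncomputable section

namespace Groth.Agent.H9Existence

open Groth.Agent

variable {A : Type u} [CommRing A] [IsNoetherianRing A] {I : Ideal A} [IsAdicComplete I A]
  {W : Scheme.{u}} [W.Over (Spec (CommRingCat.of A))] [IsProper (W ↘ Spec (CommRingCat.of A))]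
  (S : AmpleVan.AdicSys A I) (e : ∀ n, S.X n ⟶ W)
  (sq : ∀ n, IsPullback (e n) (S.p n) (W ↘ Spec (CommRingCat.of A)) (CohB1.specQuot I n))
  (ht : ∀ n, S.i n ≫ e (n + 1) = e n)

include sq ht in
/-- An invertible module restricting to an ample system is ample. -/
theorem isAmple_of_system (hp : IsProper (S.p 0)) (L : ∀ k, (S.X k).Modules) (hL : ∀ k, PicF.IsInvertible (L k))
    (φ : ∀ k, Nonempty ((Scheme.Modules.pullback (S.i k)).obj (L (k + 1)) ≅ L k)) (ha : CohB1.IsAmple (L 0))
    (M : W.Modules) (hM : PicF.IsInvertible M) (hMn : ∀ n, Nonempty ((Scheme.Modules.pullback (e n)).obj M ≅ L n)) :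
    CohB1.IsAmple M := by
  haveI : CompactSpace W := QuasiCompact.compactSpace_of_compactSpace (W ↘ Spec (CommRingCat.of A))
  haveI : IsLocallyNoetherian W := LocallyOfFiniteType.isLocallyNoetherian (W ↘ Spec (CommRingCat.of A))
  haveI : IsNoetherian W := {}
  haveI : ∀ n, IsClosedImmersion (CohB1.specQuot I n) := fun n =>
    IsClosedImmersion.spec_of_surjective _ Ideal.Quotient.mk_surjective
  haveI : ∀ n, IsClosedImmersion (e n) := fun n =>
    MorphismProperty.of_isPullback (P := @IsClosedImmersion) (sq n).flip inferInstance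
  refine AmpleVan.isAmple_of_HH_one hM fun Z hZ => ?_
  let F := (QCoh.vanIdeal Z).toModules
  have hF : Coh.IsCoh F := QCoh.isCoh_of_mono (QCoh.vanIdeal Z).ι (QCoh.isCoh_structureModule' (X := W))
    (QCoh.isQCoh_vanIdeal Z)
  let FM : AmpleVan.AdicMod S := ⟨fun k => (Scheme.Modules.pullback (e k)).obj F,
    fun k => haveI := S.isLocallyNoetherian hp k
      ZClosLib.isCoh_pullback (e k) hF,
    fun k => (Scheme.Modules.pullbackComp (S.i k) (e (k + 1))).app F ≪≫ (Scheme.Modules.pullbackCongr (ht k)).app F,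
    fun k => S.isLocallyNoetherian hp k⟩
  obtain ⟨n₀, hn₀⟩ := FM.exists_vanishing hp L hL φ ha
  refine ⟨n₀, ?_⟩
  let P := CohB1.tensorPow M (n₀ + 1)
  have hP : PicF.IsInvertible P := InvX.isInvertible_tensorPow hM _
  let T := CohB1.tensorMod F P
  have hT : Coh.IsCoh T := AmpleVan.isCoh_tensor hF
    (KRRReg.isCoh_of_finLocFree (ParaFX.FlatDesc.isFinLocFree_of_invertible hP))
  have hlev : ∀ k, Subsingleton (Coh.HH W (Formal.modPow I (k + 1) T) 1) := fun k => by
    obtain ⟨h0, hiso⟩ := isQuot_unit (sq k) hT.1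
    haveI := hiso
    let i₁ : Formal.modPow I (k + 1) T ≅
        (Scheme.Modules.pushforward (e k)).obj ((Scheme.Modules.pullback (e k)).obj T) :=
      @asIso _ _ _ _ _ hiso
    have hq : Coh.IsQCoh ((Scheme.Modules.pullback (e k)).obj T) := QCoh.isQCoh_pullback _ hT.1
    obtain ⟨p⟩ := H23.PicMul.pull (e k) F P
    obtain ⟨c⟩ : Nonempty (CohB1.tensorMod ((Scheme.Modules.pullback (e k)).obj F) ((Scheme.Modules.pullback (e k)).obj P) ≅
        CohB1.tensorMod (FM.F k) (CohB1.tensorPow (L k) (n₀ + 1))) := cl_eq_iff.1 (by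
      rw [cl_tensor, cl_tensor]
      refine congrArg (PicF.cl ((Scheme.Modules.pullback (e k)).obj F) * ·) ?_
      show PicF.pullCl (e k) (PicF.cl (CohB1.tensorPow M (n₀ + 1))) = _
      rw [cl_tensorPow, cl_tensorPow, pullCl_pow]
      exact congrArg (· ^ (n₀ + 1)) (cl_eq_iff.2 (hMn k)))
    obtain ⟨E⟩ := QCoh.HH_push_of_isAffineHom (e k) hq 1
    have h1 : Subsingleton (Coh.HH (S.X k) ((Scheme.Modules.pullback (e k)).obj T) 1) :=
      QCoh.subsingleton_HH_of_iso (p ≪≫ c).symm 1 ((hn₀ (n₀ + 1) n₀.le_succ k 0).1)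
    exact QCoh.subsingleton_HH_of_iso i₁.symm 1 (E.symm.toEquiv.subsingleton)
  obtain ⟨c, hc⟩ := S0057.result A I W T hT 1
  haveI hfin : Module.Finite A (Coh.HH W T 1) := FFun.finite_HH_of_properSupport A
    (QCoh.isProperOver_of_subset (f := W ↘ Spec (CommRingCat.of A)) (𝟙 W) isClosed_univ (fun x _ => ⟨x, rfl⟩)) hT (Set.subset_univ _) 1
  have htop : (⊤ : Submodule A (Coh.HH W T 1)) ≤ I • ⊤ := fun x _ => by
    have hx : x ∈ ((Formal.toHHmodPow I T 1 (c + 1)).ker : Set (Coh.HH W T 1)) :=
      @Subsingleton.elim _ (hlev (c + 1)) _ _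
    have := hc (c + 1) (Nat.le_succ c) hx
    rwa [Nat.add_sub_cancel_left, pow_one] at this
  have hbot := Submodule.eq_bot_of_le_smul_of_le_jacobson_bot I (⊤ : Submodule A (Coh.HH W T 1))
    Module.Finite.fg_top htop (IsAdicComplete.le_jacobson_bot I)
  exact ⟨fun x y => ((Submodule.mem_bot A).1 (hbot.le (Submodule.mem_top (x := x)))).trans
    ((Submodule.mem_bot A).1 (hbot.le (Submodule.mem_top (x := y)))).symm⟩

end Groth.Agent.H9Existence
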