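import Groth.Agent.H9Existence.Nakayama
import Groth.Agent.AmpleVan.AdicBase
import Groth.Agent.FComplLib.Thicken
import Groth.Agent.QCoh.Localize
import Groth.Agent.KRRReg.LocFree
import Groth.Agent.ParaFX.FlatDesc
import Groth.Agent.S0004
import Groth.Agent.S0060

/-! Algebraization of formal closed subschemes of a proper scheme. -/

set_option autoImplicit false
set_option linter.style.haveILetI false
set_option backward.isDefEq.respectTransparency false
set_option backward.isDefEq.respectTransparency.types false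

universe u

open CategoryTheory CategoryTheory.Limits AlgebraicGeometry TopologicalSpace Opposite

attribute [local instance] HasDerivedCategory.standard

noncomputable section

namespace Groth.Agent.H9Existence

open Groth.Agent
open Groth.Agent.AmpleVan (scal)

section Affine

variable {A : Type u} [CommRing A] {X : Scheme.{u}} [X.Over (Spec (CommRingCat.of A))]

theorem exists_affine_nhd (X : Scheme.{u}) : ∀ (V : X.Opens) x, x ∈ V → ∃ W : X.Opens, IsAffineOpen W ∧ x ∈ W ∧ W ≤ V :=
  fun V x hx => by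
    obtain ⟨_, ⟨W, hW, rfl⟩, hxW, hWV⟩ := X.isBasis_affineOpens.exists_subset_of_mem_open hx V.isOpen
    exact ⟨W, hW, hxW, hWV⟩

/-- The sections killed by a reduction modulo an ideal of the base. -/
theorem app_eq_zero_iff_of_isQuot {J : Ideal A} {M N : X.Modules} {g : M ⟶ N} (hg : Algz7.IsQuot J g)
    (hM : Coh.IsQCoh M) (U : X.affineOpens) (x : Γ(M, U.1)) :
    g.app U.1 x = 0 ↔ x ∈ J.map (scal A U.1) • (⊤ : Submodule Γ(X, U.1) Γ(M, U.1)) := by
  let s := Spec.map (CommRingCat.ofHom (Ideal.Quotient.mk J))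
  haveI : IsClosedImmersion s := IsClosedImmersion.spec_of_surjective _ Ideal.Quotient.mk_surjective
  let i := pullback.fst (X ↘ Spec (CommRingCat.of A)) s
  have sq : IsPullback i (pullback.snd (X ↘ Spec (CommRingCat.of A)) s) (X ↘ Spec (CommRingCat.of A)) s :=
    IsPullback.of_hasPullback _ _
  have hu := isQuot_unit sq hM
  let η := (Scheme.Modules.pullbackPushforwardAdjunction i).unit.app M
  obtain ⟨a, ha⟩ := hg.desc η (Algz7.smulFamily_comp_eq_zero (Algz7.killedBy_of_isQuot hu) _)
  obtain ⟨b, hb⟩ := hu.desc g (Algz7.smulFamily_comp_eq_zero (Algz7.killedBy_of_isQuot hg) _)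
  have hiff : g.app U.1 x = 0 ↔ η.app U.1 x = 0 :=
    ⟨fun h => by rw [show η.app U.1 x = a.app U.1 (g.app U.1 x) from congr(($ha).app U.1 x).symm, h, map_zero],
     fun h => by rw [show g.app U.1 x = b.app U.1 (η.app U.1 x) from congr(($hb).app U.1 x).symm, h, map_zero]⟩
  rw [hiff, ← AmpleVan.ker_ideal_of_isPullback sq U]
  exact (QCoh.unit_app_closed i hM U.2).2 x

omit [X.Over (Spec (CommRingCat.of A))] in
theorem mem_smul_structure_iff {U : X.Opens} (I : Ideal Γ(X, U)) (a : Γ(X, U)) :
    (a • (show Γ(Coh.structureModule X, U) from (1 : Γ(X, U)))) ∈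
      I • (⊤ : Submodule Γ(X, U) Γ(Coh.structureModule X, U)) ↔ a ∈ I := by
  refine ⟨fun h => ?_, fun h => Submodule.smul_mem_smul h trivial⟩
  have : QCoh.toFn (a • (show Γ(Coh.structureModule X, U) from (1 : Γ(X, U)))) ∈ I := by
    refine Submodule.smul_induction_on h (fun r hr n _ => ?_) fun x y hx hy => ?_
    · exact Ideal.mul_mem_right (QCoh.toFn n) _ hr
    · exact add_mem hx hy
  rwa [show QCoh.toFn (a • (show Γ(Coh.structureModule X, U) from (1 : Γ(X, U)))) = a from mul_one a] at this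

end Affine

section Ann

variable {X : Scheme.{u}} {M : X.Modules} (hM : Coh.IsQCoh M) (m : Γ(M, ⊤))

/-- The annihilator of a section of a quasi-coherent module. -/
def annIdeal : X.IdealSheafData where
  ideal U := LinearMap.ker (LinearMap.toSpanSingleton Γ(X, U.1) Γ(M, U.1) (AModX.res M (le_top : U.1 ≤ ⊤) m))
  map_ideal_basicOpen U f := by
    let mU := AModX.res M (le_top : U.1 ≤ ⊤) m
    let mD := AModX.res M (le_top : X.basicOpen f ≤ ⊤) m
    have hres : ∀ a : Γ(X, U.1), M.presheaf.map (homOfLE (X.basicOpen_le f)).op (a • mU) =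
        (X.presheaf.map (homOfLE (X.basicOpen_le f)).op a) • mD := fun a => by
      rw [QCoh.map_smul']
      exact congrArg (X.presheaf.map (homOfLE (X.basicOpen_le f)).op a • ·)
        (AModX.res_res (M := M) (le_top : U.1 ≤ ⊤) (X.basicOpen_le f) m)
    refine le_antisymm (Ideal.map_le_iff_le_comap.2 fun a ha => ?_) fun b hb => ?_
    · have ha' : a • mU = 0 := ha
      have := hres a
      rw [ha', map_zero] at this
      exact this.symm
    · change Γ(X, X.basicOpen f) at b
      replace hb : b • mD = 0 := hb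
      let ρ := (X.presheaf.map (homOfLE (X.basicOpen_le f)).op).hom
      letI : Algebra Γ(X, U.1) Γ(X, X.basicOpen f) := ρ.toAlgebra
      haveI : IsLocalization.Away f Γ(X, X.basicOpen f) := U.2.isLocalization_basicOpen f
      obtain ⟨⟨a, ⟨_, n, rfl⟩⟩, hsurj⟩ := IsLocalization.surj (Submonoid.powers f) b
      have hsurj' : b * ρ f ^ n = ρ a := by rw [← map_pow]; exact hsurj
      have h0 : M.presheaf.map (homOfLE (X.basicOpen_le f)).op (a • mU) = 0 := by
        rw [hres]
        show ρ a • mD = 0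
        rw [← hsurj', mul_comm, mul_smul, hb, smul_zero]
      obtain ⟨k, hk⟩ := QCoh.exists_pow_smul_eq_zero hM U.2 f (a • mU) h0
      rw [← mul_smul] at hk
      have hmem : ρ (f ^ k * a) ∈ Ideal.map ρ
          (LinearMap.ker (LinearMap.toSpanSingleton Γ(X, U.1) Γ(M, U.1) mU)) :=
        Ideal.mem_map_of_mem ρ (LinearMap.mem_ker.2 hk)
      have hu : IsUnit (ρ f ^ (k + n)) := (RingedSpace.isUnit_res_basicOpen _ f).pow _
      refine (Ideal.unit_mul_mem_iff_mem _ hu).1 ?_
      have e : ρ f ^ (k + n) * b = ρ (f ^ k * a) := by rw [map_mul, map_pow, ← hsurj', pow_add]; ring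
      rw [e]
      exact hmem

theorem mem_annIdeal {U : X.affineOpens} {a : Γ(X, U.1)} :
    a ∈ (annIdeal hM m).ideal U ↔ a • AModX.res M (le_top : U.1 ≤ ⊤) m = 0 := Iff.rfl

end Ann

section System

variable {A : Type u} [CommRing A] [IsNoetherianRing A] {I : Ideal A} [IsAdicComplete I A]
  {P : Scheme.{u}} [P.Over (Spec (CommRingCat.of A))]
  (S : AmpleVan.AdicSys A I) (r : ∀ n, S.X n ⟶ P) [∀ n, IsClosedImmersion (r n)]
  (hr : ∀ n, r n ≫ (P ↘ Spec (CommRingCat.of A)) = S.X n ↘ Spec (CommRingCat.of A))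
  (ht : ∀ n, S.i n ≫ r (n + 1) = r n)

include hr ht in
theorem ker_succ (n : ℕ) (U : P.affineOpens) :
    (r n).ker.ideal U = (r (n + 1)).ker.ideal U ⊔ (I ^ (n + 1)).map (scal A U.1) := by
  have hV : IsAffineOpen (r (n + 1) ⁻¹ᵁ U.1) := U.2.preimage (r (n + 1))
  have hscal : ((r (n + 1)).app U.1).hom.comp (scal A U.1) = scal A (r (n + 1) ⁻¹ᵁ U.1) := by
    ext c
    show (r (n + 1)).app U.1 (Coh.resTop P (op U.1) _) = _
    rw [AmpleVan.resTop_app]
    exact congrArg (Coh.resTop (S.X (n + 1)) (op (r (n + 1) ⁻¹ᵁ U.1)))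
      congr(($(hr (n + 1))).appTop ((Scheme.ΓSpecIso (CommRingCat.of A)).inv c))
  have hk : RingHom.ker ((S.i n).app (r (n + 1) ⁻¹ᵁ U.1)).hom =
      ((I ^ (n + 1)).map (scal A U.1)).map ((r (n + 1)).app U.1).hom := by
    rw [Ideal.map_map, hscal, ← AmpleVan.ker_ideal_of_isPullback (S.square_i n) ⟨_, hV⟩, FComplLib.ideal_ker]
  have hs : Function.Surjective ((r (n + 1)).app U.1).hom := (r (n + 1)).app_surjective U.1 U.2
  have e : RingHom.ker ((S.i n ≫ r (n + 1)).app U.1).hom =
      (RingHom.ker ((S.i n).app (r (n + 1) ⁻¹ᵁ U.1)).hom).comap ((r (n + 1)).app U.1).hom := rfl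
  calc (r n).ker.ideal U = (S.i n ≫ r (n + 1)).ker.ideal U := by
        simp only [ht n]
    _ = RingHom.ker ((S.i n ≫ r (n + 1)).app U.1).hom := FComplLib.ideal_ker _ _
    _ = _ := by
      rw [e, hk, Ideal.comap_map_of_surjective _ hs, FComplLib.ideal_ker, ← RingHom.ker_eq_comap_bot, sup_comm]

/-- The formal system of structure sheaves. -/
abbrev G0 (n : ℕ) : P.Modules :=
  (Scheme.Modules.pushforward (r n)).obj ((Scheme.Modules.pullback (r n)).obj (Coh.structureModule P))

/-- The quotient maps. -/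
abbrev u0 (n : ℕ) : Coh.structureModule P ⟶ G0 S r n :=
  (Scheme.Modules.pullbackPushforwardAdjunction (r n)).unit.app (Coh.structureModule P)

omit [IsNoetherianRing A] [IsAdicComplete I A] [P.Over (Spec (CommRingCat.of A))] in
theorem u0_eq_zero_iff (n : ℕ) (U : P.affineOpens) (a : Γ(P, U.1)) :
    (u0 S r n).app U.1 (a • (show Γ(Coh.structureModule P, U.1) from (1 : Γ(P, U.1)))) = 0 ↔
      a ∈ (r n).ker.ideal U :=
  ((QCoh.unit_app_closed (r n) QCoh.isQCoh_structureModule U.2).2 _).trans (mem_smul_structure_iff _ a)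

include hr ht in
theorem exists_trans (n : ℕ) : ∃ g : G0 S r (n + 1) ⟶ G0 S r n, u0 S r (n + 1) ≫ g = u0 S r n ∧
    Algz7.IsQuot (I ^ (n + 1)) g := by
  let O := Coh.structureModule P
  let G' := G0 S r (n + 1)
  have hO : Coh.IsQCoh O := QCoh.isQCoh_structureModule
  haveI hi' : IsIso ((Scheme.Modules.pullback (r (n + 1))).map (u0 S r (n + 1))) := by
    haveI := AmpleVan.isIso_counit (r (n + 1)) (QCoh.isQCoh_pullback (r (n + 1)) hO)
    haveI : IsIso ((Scheme.Modules.pullback (r (n + 1))).map (u0 S r (n + 1)) ≫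
        (Scheme.Modules.pullbackPushforwardAdjunction (r (n + 1))).counit.app _) := by
      rw [(Scheme.Modules.pullbackPushforwardAdjunction (r (n + 1))).left_triangle_components]
      infer_instance
    exact IsIso.of_isIso_comp_right _
      ((Scheme.Modules.pullbackPushforwardAdjunction (r (n + 1))).counit.app ((Scheme.Modules.pullback (r (n + 1))).obj O))
  let θ : Scheme.Modules.pullback (r (n + 1)) ⋙ Scheme.Modules.pullback (S.i n) ≅ Scheme.Modules.pullback (r n) :=
    Scheme.Modules.pullbackComp (S.i n) (r (n + 1)) ≪≫ Scheme.Modules.pullbackCongr (ht n)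
  haveI : IsIso ((Scheme.Modules.pullback (r n)).map (u0 S r (n + 1))) :=
    (NatIso.isIso_map_iff θ (u0 S r (n + 1))).1
      (inferInstanceAs (IsIso ((Scheme.Modules.pullback (S.i n)).map ((Scheme.Modules.pullback (r (n + 1))).map (u0 S r (n + 1))))))
  let g : G' ⟶ G0 S r n := (Scheme.Modules.pullbackPushforwardAdjunction (r n)).unit.app G' ≫
    (Scheme.Modules.pushforward (r n)).map (inv ((Scheme.Modules.pullback (r n)).map (u0 S r (n + 1))))
  have hug : u0 S r (n + 1) ≫ g = u0 S r n := by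
    have hnat := (Scheme.Modules.pullbackPushforwardAdjunction (r n)).unit.naturality (u0 S r (n + 1))
    have hnat' : u0 S r (n + 1) ≫ (Scheme.Modules.pullbackPushforwardAdjunction (r n)).unit.app G' =
        u0 S r n ≫ (Scheme.Modules.pushforward (r n)).map ((Scheme.Modules.pullback (r n)).map (u0 S r (n + 1))) := hnat
    show u0 S r (n + 1) ≫ _ ≫ _ = _
    rw [← Category.assoc, hnat', Category.assoc, ← Functor.map_comp, IsIso.hom_inv_id]
    erw [(Scheme.Modules.pushforward (r n)).map_id, Category.comp_id]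
  refine ⟨g, hug, ?_⟩
  haveI he' : Epi (u0 S r (n + 1)) := epi_unit hO
  haveI he : Epi (u0 S r n) := epi_unit hO
  haveI : Epi g := epi_of_epi_fac hug
  refine Algz7.IsQuot.mk' g (fun a ha => ?_) fun {T} φ hφ => ?_
  · rw [← AmpleVan.push_map_smulMod (r n) (hr n), S.smulMod_eq_zero n _ ha, Functor.map_zero]
  let w := u0 S r (n + 1) ≫ φ
  have hw : kernel.ι (u0 S r n) ≫ w = 0 := by
    refine LimMod.hom_ext_basis (P := IsAffineOpen) (exists_affine_nhd P) _ _ fun U hU y => ?_
    let x := (kernel.ι (u0 S r n)).app U y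
    have hx : (u0 S r n).app U x = 0 := congr(($(kernel.condition (u0 S r n))).app U y)
    have hx' := ((QCoh.unit_app_closed (r n) hO hU).2 x).1 hx
    rw [ker_succ S r hr ht n ⟨U, hU⟩] at hx'
    show w.app U x = 0
    refine Submodule.smul_induction_on hx' (fun c hc z _ => ?_) fun p q hp hq => by rw [map_add, hp, hq, add_zero]
    obtain ⟨b, hb, d, hd, rfl⟩ := Submodule.mem_sup.1 hc
    rw [add_smul, map_add]
    have h1 : w.app U (b • z) = 0 := by
      show φ.app U ((u0 S r (n + 1)).app U (b • z)) = 0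
      refine (congrArg (φ.app U) ?_).trans (map_zero _)
      exact ((QCoh.unit_app_closed (r (n + 1)) hO hU).2 _).2 (Submodule.smul_mem_smul hb trivial)
    have h2 : w.app U (d • z) = 0 := by
      show φ.app U ((u0 S r (n + 1)).app U (d • z)) = 0
      rw [Scheme.Modules.Hom.app_smul]
      generalize (u0 S r (n + 1)).app U z = v
      clear hc h1
      induction hd using Submodule.span_induction generalizing v with
      | mem d hd =>
        obtain ⟨a, ha, rfl⟩ := hd
        exact congr(($(Algz7.smulMod_comp_eq_zero hφ ha)).app U v)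
      | zero => rw [zero_smul, map_zero]
      | add d d' _ _ hd hd' => rw [add_smul, map_add, hd, hd', add_zero]
      | smul t d _ hd => rw [smul_eq_mul, mul_smul, Scheme.Modules.Hom.app_smul, hd, smul_zero]
    rw [h1, h2, add_zero]
  let ψ := (ShortComplex.exact_kernel (u0 S r n)).desc w hw
  refine ⟨ψ, ?_⟩
  rw [← cancel_epi (u0 S r (n + 1)), ← Category.assoc, hug]
  exact (ShortComplex.exact_kernel (u0 S r n)).g_desc _ _

set_option maxHeartbeats 1000000 in
include hr ht in
/-- A formal closed subscheme of a proper scheme is the completion of a closed subscheme. -/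
theorem exists_closed_of_system [IsProper (P ↘ Spec (CommRingCat.of A))] :
    ∃ (W : Scheme.{u}) (ι : W ⟶ P) (e : ∀ n, S.X n ⟶ W), IsClosedImmersion ι ∧ (∀ n, e n ≫ ι = r n) ∧
      ∀ n, IsPullback (e n) (S.p n) (ι ≫ (P ↘ Spec (CommRingCat.of A))) (CohB1.specQuot I n) := by
  haveI : IsLocallyNoetherian P := LocallyOfFiniteType.isLocallyNoetherian (P ↘ Spec (CommRingCat.of A))
  let O := Coh.structureModule P
  have hO : Coh.IsQCoh O := QCoh.isQCoh_structureModule
  have hOc : Coh.IsCoh O :=
    KRRReg.isCoh_of_finLocFree (ParaFX.FlatDesc.isFinLocFree_of_invertible InvX.isInvertible_structureModule)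
  choose g hug hquot using exists_trans S r hr ht
  let G : ℕᵒᵖ ⥤ P.Modules := Functor.ofOpSequence (X := G0 S r) g
  have hG : Formal.IsCohFormal I G := by
    refine ⟨fun n => QCoh.isCoh_pushforward_finite (r n) ?_, fun n a ha => ?_, fun n => ?_⟩
    · haveI := S.isLocallyNoetherian
      exact ZClosLib.isCoh_pullback (r n) hOc
    · show Formal.smulMod A (G0 S r n) a = 0
      rw [← AmpleVan.push_map_smulMod (r n) (hr n), S.smulMod_eq_zero n _ ha, Functor.map_zero]
    · rw [show G.map (homOfLE (Nat.le_succ n)).op = g n from Functor.ofOpSequence_map_homOfLE_succ g n]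
      exact hquot n
  obtain ⟨M, hM, ⟨c⟩⟩ := (S0004.result A I P).2 G hG
  have hkill : ∀ n, Formal.smulFamily (I ^ (n + 1)) O ≫ u0 S r n = 0 := fun n =>
    Algz7.smulFamily_comp_eq_zero (fun a ha => (hG.2.1 n a ha)) _
  choose τ' hτ' using fun n => (Algz7.isQuot_modPowπ I (n + 1) O).desc (u0 S r n) (hkill n)
  let τ : Formal.completion I O ⟶ G := NatTrans.ofOpSequence τ' fun n => by
    haveI := (Algz7.isQuot_modPowπ I (n + 1 + 1) O).epi
    rw [Algz7.completion_map_succ, show G.map (homOfLE (Nat.le_succ n)).op = g n from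
      Functor.ofOpSequence_map_homOfLE_succ g n, ← cancel_epi (Formal.modPowπ I (n + 1 + 1) O)]
    erw [← Category.assoc, Formal.modPowπ_trans, hτ', ← Category.assoc, hτ', hug]
  obtain ⟨φ, hφ, -⟩ := S0060.result A I P O M hOc hM (τ ≫ c.inv)
  let v : ∀ n, M ⟶ G0 S r n := fun n => Formal.modPowπ I (n + 1) M ≫ c.hom.app (op n)
  have hv : ∀ n, Algz7.IsQuot (I ^ (n + 1)) (v n) := fun n => by
    obtain ⟨h0, hiso⟩ := Algz7.isQuot_modPowπ I (n + 1) M
    haveI := hiso
    haveI : IsIso (c.hom.app (op n)) := inferInstance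
    have h1 : Formal.smulFamily (I ^ (n + 1)) M ≫ v n = 0 := by
      rw [← Category.assoc, h0]; exact zero_comp
    refine ⟨h1, ?_⟩
    rw [show cokernel.desc _ (v n) h1 = cokernel.desc _ _ h0 ≫ c.hom.app (op n) from
      coequalizer.hom_ext (by simp [v])]
    infer_instance
  have huv : ∀ n, φ ≫ v n = u0 S r n := fun n => by
    show φ ≫ Formal.modPowπ I (n + 1) M ≫ c.hom.app (op n) = _
    rw [← Category.assoc, ← hφ n]
    show (Formal.modPowπ I (n + 1) O ≫ τ' n ≫ c.inv.app (op n)) ≫ c.hom.app (op n) = _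
    rw [Category.assoc, Category.assoc]
    erw [Iso.inv_hom_id_app, Category.comp_id]
    exact hτ' n
  -- `φ` is epi
  let Q := fun n => pullback (P ↘ Spec (CommRingCat.of A)) (CohB1.specQuot I n)
  haveI : Epi φ := by
    refine Preadditive.epi_of_cokernel_zero ?_
    have hC : Coh.IsCoh (cokernel φ) := Algz7.isCoh_of_epi (cokernel.π φ) hM (QCoh.isQCoh_cokernel hO hM.1 φ)
    have hs : IsClosedImmersion (CohB1.specQuot I 0) :=
      IsClosedImmersion.spec_of_surjective _ Ideal.Quotient.mk_surjective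
    refine IsZero.eq_of_tgt (isZero_of_le_smul (i := pullback.fst (P ↘ Spec (CommRingCat.of A)) (CohB1.specQuot I 0))
      (IsPullback.of_hasPullback _ _) (by rw [zero_add, pow_one]; exact IsAdicComplete.le_jacobson_bot I) hC
      fun U y _ => ?_) _ _
    obtain ⟨z, rfl⟩ := QCoh.app_surjective_of_epi hM.1 hC.1 (cokernel.π φ) U.2 y
    obtain ⟨a, ha⟩ := (QCoh.unit_app_closed (r 0) hO U.2).1 ((v 0).app U.1 z)
    have h0 : (v 0).app U.1 (z - φ.app U.1 a) = 0 := by
      rw [map_sub, sub_eq_zero, ← ha]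
      exact congr(($(huv 0)).app U.1 a).symm
    have h1 := (app_eq_zero_iff_of_isQuot (hv 0) hM.1 U _).1 h0
    have h2 : (cokernel.π φ).app U.1 (z - φ.app U.1 a) = (cokernel.π φ).app U.1 z := by
      rw [map_sub, show (cokernel.π φ).app U.1 (φ.app U.1 a) = 0 from congr(($(cokernel.condition φ)).app U.1 a),
        sub_zero]
    rw [← h2]
    refine Submodule.smul_induction_on h1 (fun c hc t _ => ?_) fun p q hp hq => by rw [map_add]; exact add_mem hp hq
    rw [Scheme.Modules.Hom.app_smul]
    exact Submodule.smul_mem_smul hc trivial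
  let m : Γ(M, ⊤) := φ.app ⊤ (show Γ(O, ⊤) from (1 : Γ(P, ⊤)))
  let K := annIdeal hM.1 m
  have hφU : ∀ (U : P.affineOpens) (a : Γ(P, U.1)),
      φ.app U.1 (a • (show Γ(O, U.1) from (1 : Γ(P, U.1)))) = a • AModX.res M (le_top : U.1 ≤ ⊤) m := fun U a => by
    rw [Scheme.Modules.Hom.app_smul, ← AModX.app_res,
      show AModX.res O (le_top : U.1 ≤ ⊤) (show Γ(O, ⊤) from (1 : Γ(P, ⊤))) = (1 : Γ(P, U.1)) from map_one (AModX.resR _)]
  have hkerK : ∀ n, (r n).ker = K ⊔ (CohB1.specQuot I n).ker.comap (P ↘ Spec (CommRingCat.of A)) := by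
    intro n
    haveI : IsClosedImmersion (CohB1.specQuot I n) :=
      IsClosedImmersion.spec_of_surjective _ Ideal.Quotient.mk_surjective
    refine Scheme.IdealSheafData.ext (funext fun U => ?_)
    have hc : ((CohB1.specQuot I n).ker.comap (P ↘ Spec (CommRingCat.of A))).ideal U = (I ^ (n + 1)).map (scal A U.1) := by
      rw [← FComplLib.ker_of_isPullback (IsPullback.of_hasPullback (P ↘ Spec (CommRingCat.of A)) (CohB1.specQuot I n))]
      exact AmpleVan.ker_ideal_of_isPullback (IsPullback.of_hasPullback _ _) U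
    rw [Scheme.IdealSheafData.ideal_sup, Pi.sup_apply, hc]
    ext a
    rw [← u0_eq_zero_iff S r n U a, ← huv n]
    show (v n).app U.1 (φ.app U.1 (a • _)) = 0 ↔ _
    rw [hφU, app_eq_zero_iff_of_isQuot (hv n) hM.1 U]
    constructor
    · intro h
      have key : ∀ y ∈ (I ^ (n + 1)).map (scal A U.1) • (⊤ : Submodule Γ(P, U.1) Γ(M, U.1)),
          ∃ d ∈ (I ^ (n + 1)).map (scal A U.1), d • AModX.res M (le_top : U.1 ≤ ⊤) m = y := by
        intro y hy
        refine Submodule.smul_induction_on hy (fun d hd t _ => ?_) ?_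
        · obtain ⟨b, rfl⟩ := QCoh.app_surjective_of_epi hO hM.1 φ U.2 t
          refine ⟨d * QCoh.toFn b, Ideal.mul_mem_right _ _ hd, ?_⟩
          rw [mul_smul, ← hφU U (QCoh.toFn b)]
          congr 2
          exact mul_one (QCoh.toFn b)
        · rintro _ _ ⟨d, hd, rfl⟩ ⟨d', hd', rfl⟩
          exact ⟨d + d', add_mem hd hd', add_smul _ _ _⟩
      obtain ⟨d, hd, he⟩ := key _ h
      exact Submodule.mem_sup.2 ⟨a - d, (mem_annIdeal hM.1 m).2 (by rw [sub_smul, he, sub_self]), d, hd, sub_add_cancel a d⟩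
    · intro h
      obtain ⟨b, hb, d, hd, rfl⟩ := Submodule.mem_sup.1 h
      rw [add_smul, (mem_annIdeal hM.1 m).1 hb, zero_add]
      exact Submodule.smul_mem_smul hd trivial
  have hle : ∀ n, K.subschemeι.ker ≤ (r n).ker := fun n => by
    rw [Scheme.IdealSheafData.ker_subschemeι, hkerK]; exact le_sup_left
  refine ⟨K.subscheme, K.subschemeι, fun n => IsClosedImmersion.lift K.subschemeι (r n) (hle n), inferInstance,
    fun n => IsClosedImmersion.lift_fac _ _ _, fun n => ?_⟩
  have hw : IsClosedImmersion.lift K.subschemeι (r n) (hle n) ≫ K.subschemeι ≫ (P ↘ Spec (CommRingCat.of A)) =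
      S.p n ≫ CohB1.specQuot I n := by
    rw [← Category.assoc, IsClosedImmersion.lift_fac, hr n]; rfl
  haveI : IsClosedImmersion (CohB1.specQuot I n) :=
    IsClosedImmersion.spec_of_surjective _ Ideal.Quotient.mk_surjective
  have hker : ∀ s : PullbackCone (K.subschemeι ≫ (P ↘ Spec (CommRingCat.of A))) (CohB1.specQuot I n),
      (r n).ker ≤ (s.fst ≫ K.subschemeι).ker := fun s => by
    rw [hkerK]
    refine sup_le ?_ ?_
    · conv_lhs => rw [← Scheme.IdealSheafData.ker_subschemeι K]
      exact Scheme.Hom.le_ker_comp _ _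
    · rw [← Scheme.IdealSheafData.le_map_iff_comap_le, Scheme.IdealSheafData.map_ker, Category.assoc, s.condition]
      exact Scheme.Hom.le_ker_comp _ _
  refine ⟨⟨hw⟩, ⟨PullbackCone.IsLimit.mk _
    (fun s => IsClosedImmersion.lift (r n) (s.fst ≫ K.subschemeι) (hker s))
    (fun s => ?_) (fun s => ?_) fun s φ h₁ _ => ?_⟩⟩
  · rw [← cancel_mono K.subschemeι, Category.assoc, IsClosedImmersion.lift_fac, IsClosedImmersion.lift_fac]
  · rw [← cancel_mono (CohB1.specQuot I n), Category.assoc, ← s.condition, ← hw, ← Category.assoc, ← Category.assoc,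
      Category.assoc (IsClosedImmersion.lift (r n) _ _), IsClosedImmersion.lift_fac, IsClosedImmersion.lift_fac,
      Category.assoc]
  · rw [← cancel_mono (r n), IsClosedImmersion.lift_fac, ← h₁, Category.assoc, IsClosedImmersion.lift_fac]

end System

end Groth.Agent.H9Existence
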