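import Groth.Agent.H9Existence.Embed
import Groth.Agent.H9Existence.ClosedSystem
import Groth.Agent.H9Existence.Invertible
import Groth.Agent.H9Existence.Ample

/-! Algebraization of formal schemes with an ample invertible module. -/

set_option autoImplicit false
set_option linter.style.haveILetI false
set_option backward.isDefEq.respectTransparency false
set_option backward.isDefEq.respectTransparency.types false

universe u

open CategoryTheory CategoryTheory.Limits AlgebraicGeometry TopologicalSpace Opposite

noncomputable section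

namespace Groth.Agent.H9Existence

open Groth.Agent

/-- An adic system with an ample system of invertible modules is algebraizable. -/
theorem exists_algebraization {A : Type u} [CommRing A] [IsNoetherianRing A] {I : Ideal A} [IsAdicComplete I A]
    (S : AmpleVan.AdicSys A I) (hp : IsProper (S.p 0)) (L : ∀ k, (S.X k).Modules)
    (hL : ∀ k, PicF.IsInvertible (L k))
    (φ : ∀ k, Nonempty ((Scheme.Modules.pullback (S.i k)).obj (L (k + 1)) ≅ L k)) (ha : CohB1.IsAmple (L 0)) :
    ∃ (Y : Scheme.{u}) (g : Y ⟶ Spec (CommRingCat.of A)) (M : Y.Modules) (e : (n : ℕ) → (S.X n ⟶ Y)),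
      IsProper g ∧ PicF.IsInvertible M ∧ CohB1.IsAmple M ∧
      (∀ n, IsPullback (e n) (S.p n) g (CohB1.specQuot I n)) ∧ (∀ n, e n = S.i n ≫ e (n + 1)) ∧
      ∀ n, Nonempty ((Scheme.Modules.pullback (e n)).obj M ≅ L n) := by
  obtain ⟨N, r, hrc, hr, hri⟩ := exists_maps S hp L hL φ ha
  haveI : IsProper ((CohB1.ProjSpace N A) ↘ Spec (CommRingCat.of A)) := PnCoh.Chow.isProper_toSpec N A
  obtain ⟨W, ι, e, hι, heι, hsq⟩ := exists_closed_of_system S r hr hri
  have het : ∀ n, S.i n ≫ e (n + 1) = e n := fun n => by
    rw [← cancel_mono ι, Category.assoc, heι, heι, hri]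
  letI : W.Over (Spec (CommRingCat.of A)) := ⟨ι ≫ (CohB1.ProjSpace N A) ↘ Spec (CommRingCat.of A)⟩
  haveI : IsProper (W ↘ Spec (CommRingCat.of A)) :=
    inferInstanceAs (IsProper (ι ≫ (CohB1.ProjSpace N A) ↘ Spec (CommRingCat.of A)))
  obtain ⟨M, hM, hMn⟩ := exists_invertible_of_system' I e (q := S.p) hsq S.i het L hL fun n => (φ n).some
  exact ⟨W, W ↘ Spec (CommRingCat.of A), M, e, inferInstance, hM,
    isAmple_of_system S e hsq het hp L hL φ ha M hM hMn, hsq, fun n => (het n).symm, hMn⟩

end Groth.Agent.H9Existence
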