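import Groth.Agent.H9Existence.Invertible
import Groth.Agent.AmpleVan.AdicBase
import Groth.Agent.FComplLib.AffSysCompl
import Groth.Prelude.Def_FSch4

/-! Adic systems over a base as completions. -/

set_option autoImplicit false
set_option linter.style.haveILetI false
set_option backward.isDefEq.respectTransparency false
set_option backward.isDefEq.respectTransparency.types false

universe u

open CategoryTheory CategoryTheory.Limits AlgebraicGeometry TopologicalSpace Opposite

noncomputable section

namespace Groth.Agent.H9Existence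

open Groth.Agent

variable {A : Type u} [CommRing A] (I : Ideal A)

theorem exists_completionSpec_iso (n : ℕ) :
    ∃ σ : (FSch.completionAlong (Spec (CommRingCat.of A)) (FSch.idealSpec A I)).X n ≅
        Spec (CommRingCat.of (A ⧸ I ^ (n + 1))),
      σ.hom ≫ CohB1.specQuot I n = FSch.completionToX _ (FSch.idealSpec A I) n :=
  completionToX_pow_ker (CohB1.specQuot I n) (FSch.idealSpec A I) n
    (show (CohB1.specQuot I n).ker = _ from (FComplLib.spfData A I).ker n)

/-- The level of the completion of `Spec A`. -/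
def specLevel (n : ℕ) : (FSch.completionAlong (Spec (CommRingCat.of A)) (FSch.idealSpec A I)).X n ≅
    Spec (CommRingCat.of (A ⧸ I ^ (n + 1))) := (exists_completionSpec_iso I n).choose

theorem specLevel_specQuot (n : ℕ) :
    (specLevel I n).hom ≫ CohB1.specQuot I n = FSch.completionToX _ (FSch.idealSpec A I) n :=
  (exists_completionSpec_iso I n).choose_spec

theorem specLevel_trans (n : ℕ) :
    (specLevel I n).hom ≫ CohB1.specQuotTrans I n =
      (FSch.completionAlong (Spec (CommRingCat.of A)) (FSch.idealSpec A I)).ι n ≫ (specLevel I (n + 1)).hom := by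
  haveI : IsClosedImmersion (CohB1.specQuot I (n + 1)) :=
    IsClosedImmersion.spec_of_surjective _ Ideal.Quotient.mk_surjective
  rw [← cancel_mono (CohB1.specQuot I (n + 1)), Category.assoc, Category.assoc, CohB1.specQuotTrans_specQuot,
    specLevel_specQuot, specLevel_specQuot]
  exact (Scheme.IdealSheafData.inclusion_subschemeι _).symm

variable {I} {𝔛 : FSch.Sys.{u}}
  (f : 𝔛 ⟶ FSch.completionAlong (Spec (CommRingCat.of A)) (FSch.idealSpec A I))

/-- An adic formal scheme over the completion of `Spec A` as an adic system over the base. -/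
def adicSys (hf : FSch.IsAdicHom f) : AmpleVan.AdicSys A I where
  X := 𝔛.X
  p n := (f : FSch.Hom _ _).app n ≫ (specLevel I n).hom
  i := 𝔛.ι
  cart n := (hf n).paste_vert (IsPullback.of_vert_isIso ⟨(specLevel_trans I n).symm⟩)

/-- An algebraization of an adic system has that system as completion. -/
theorem exists_completion_iso (hf : FSch.IsAdicHom f) {Y : Scheme.{u}} (g : Y ⟶ Spec (CommRingCat.of A))
    (e : ∀ n, 𝔛.X n ⟶ Y) (sq : ∀ n, IsPullback (e n) ((adicSys f hf).p n) g (CohB1.specQuot I n))
    (he : ∀ n, e n = 𝔛.ι n ≫ e (n + 1)) :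
    ∃ (h : FSch.PowCompat g ((FSch.idealSpec A I).comap g) (FSch.idealSpec A I))
      (c : 𝔛 ≅ FSch.completionAlong Y ((FSch.idealSpec A I).comap g)),
      c.hom ≫ FSch.completionMap g ((FSch.idealSpec A I).comap g) (FSch.idealSpec A I) h = f := by
  letI : Y.Over (Spec (CommRingCat.of A)) := ⟨g⟩
  haveI : ∀ n, IsClosedImmersion (CohB1.specQuot I n) := fun n =>
    IsClosedImmersion.spec_of_surjective _ Ideal.Quotient.mk_surjective
  haveI : ∀ n, IsClosedImmersion (e n) := fun n =>
    MorphismProperty.of_isPullback (P := @IsClosedImmersion) (sq n).flip inferInstance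
  let 𝓚 := (FSch.idealSpec A I).comap g
  haveI : IsClosedImmersion (Spec.map (CommRingCat.ofHom (Ideal.Quotient.mk I))) :=
    IsClosedImmersion.spec_of_surjective _ Ideal.Quotient.mk_surjective
  have hK : ∀ U, 𝓚.ideal U = I.map (AmpleVan.scal A U.1) := fun U => by
    show (Scheme.IdealSheafData.comap (Spec.map (CommRingCat.ofHom (Ideal.Quotient.mk I))).ker g).ideal U = _
    rw [← FComplLib.ker_of_isPullback (IsPullback.of_hasPullback g (Spec.map (CommRingCat.ofHom (Ideal.Quotient.mk I))))]
    exact AmpleVan.ker_ideal_of_isPullback (IsPullback.of_hasPullback _ _) U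
  have hker : ∀ n, (e n).ker = 𝓚 ^ (n + 1) := fun n => Scheme.IdealSheafData.ext (funext fun U => by
    rw [Scheme.IdealSheafData.ideal_pow, Pi.pow_apply, AmpleVan.ker_ideal_of_isPullback (sq n) U, hK U, Ideal.map_pow])
  have hh : FSch.PowCompat g 𝓚 (FSch.idealSpec A I) := fun n => by
    rw [← hker n, FComplLib.ker_of_isPullback (sq n)]
    exact le_of_eq (congrArg (Scheme.IdealSheafData.comap · g) ((FComplLib.spfData A I).ker n).symm)
  choose ε hε using fun n => completionToX_pow_ker (e n) 𝓚 n (hker n)
  let C := FSch.completionAlong Y 𝓚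
  have hι : ∀ n, C.ι n ≫ FSch.completionToX Y 𝓚 (n + 1) = FSch.completionToX Y 𝓚 n := fun n =>
    Scheme.IdealSheafData.inclusion_subschemeι _
  let a : 𝔛 ⟶ C := ⟨fun n => (ε n).inv, fun n => by
    haveI : IsClosedImmersion (FSch.completionToX Y 𝓚 (n + 1)) :=
      inferInstanceAs (IsClosedImmersion (𝓚 ^ (n + 1 + 1)).subschemeι)
    rw [← cancel_mono (FSch.completionToX Y 𝓚 (n + 1)), Category.assoc, Category.assoc, hι, ← hε n, ← hε (n + 1),
      Iso.inv_hom_id_assoc, Iso.inv_hom_id_assoc]
    exact he n⟩
  let b : C ⟶ 𝔛 := ⟨fun n => (ε n).hom, fun n => by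
    rw [← cancel_mono (e (n + 1)), Category.assoc, Category.assoc, ← he n, hε, hε]
    exact (hι n).symm⟩
  refine ⟨hh, ⟨a, b, FSch.Hom.ext (funext fun n => (ε n).inv_hom_id), FSch.Hom.ext (funext fun n => (ε n).hom_inv_id)⟩,
    FSch.Hom.ext (funext fun n => ?_)⟩
  show (ε n).inv ≫ Scheme.IdealSheafData.subschemeMap (𝓚 ^ (n + 1)) (FSch.idealSpec A I ^ (n + 1)) g
      (Scheme.IdealSheafData.le_map_iff_comap_le.mpr (hh n)) =
    (f : FSch.Hom _ _).app n
  rw [← cancel_mono (FSch.idealSpec A I ^ (n + 1)).subschemeι, Category.assoc,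
    Scheme.IdealSheafData.subschemeMap_subschemeι]
  show (ε n).inv ≫ FSch.completionToX Y 𝓚 n ≫ g = _ ≫ FSch.completionToX _ (FSch.idealSpec A I) n
  rw [← hε n, Category.assoc, Iso.inv_hom_id_assoc, (sq n).w, ← specLevel_specQuot]
  exact Category.assoc _ _ _

end Groth.Agent.H9Existence
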