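import Groth.Agent.H9LiftLF.SmallExt
import Groth.Agent.Algz7.Completion

/-! Reductions modulo an ideal of the base as inverse images. -/

set_option autoImplicit false
set_option linter.style.haveILetI false
set_option backward.isDefEq.respectTransparency false
set_option backward.isDefEq.respectTransparency.types false

universe u

open CategoryTheory CategoryTheory.Limits AlgebraicGeometry TopologicalSpace Opposite

noncomputable section

namespace Groth.Agent.H9Existence

open Groth.Agent
open Groth.Agent.AmpleVan (scal)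

variable {A : Type u} [CommRing A] {X Z : Scheme.{u}} [X.Over (Spec (CommRingCat.of A))] {J : Ideal A}
  {i : Z ⟶ X} [IsClosedImmersion i] {q : Z ⟶ Spec (CommRingCat.of (A ⧸ J))}
  (sq : IsPullback i q (X ↘ Spec (CommRingCat.of A)) (Spec.map (CommRingCat.ofHom (Ideal.Quotient.mk J))))

include sq in
theorem killed_of_killedBy {P : X.Modules} (h : Formal.KilledBy J P) : H9LiftLF.Killed i P := fun U a ha s => by
  rw [AmpleVan.ker_ideal_of_isPullback sq U] at ha
  induction ha using Submodule.span_induction with
  | mem x hx =>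
    obtain ⟨c, hc, rfl⟩ := hx
    exact congr($(h c hc).app U.1 s)
  | zero => exact zero_smul _ s
  | add x y _ _ hx hy => rw [add_smul, hx, hy, add_zero]
  | smul r x _ hx => rw [smul_eq_mul, mul_smul, hx, smul_zero]

include sq in
theorem scal_mem_ker {c : A} (hc : c ∈ J) (U : X.affineOpens) : scal A U.1 c ∈ i.ker.ideal U := by
  rw [AmpleVan.ker_ideal_of_isPullback sq U]
  exact Ideal.mem_map_of_mem _ hc

include sq in
theorem killedBy_push {N : Z.Modules} (hN : Coh.IsQCoh N) :
    Formal.KilledBy J ((Scheme.Modules.pushforward i).obj N) := fun c hc => by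
  refine LimMod.hom_ext_basis (P := IsAffineOpen) ?_ _ _ fun U hU s => ?_
  · intro V x hx
    obtain ⟨_, ⟨W, hW, rfl⟩, hxW, hWV⟩ := X.isBasis_affineOpens.exists_subset_of_mem_open hx V.isOpen
    exact ⟨W, hW, hxW, hWV⟩
  · exact H9LiftLF.killed_push i hN ⟨U, hU⟩ _ (scal_mem_ker sq hc ⟨U, hU⟩) s

omit [X.Over (Spec (CommRingCat.of A))] in
theorem epi_unit {P : X.Modules} (hP : Coh.IsQCoh P) :
    Epi ((Scheme.Modules.pullbackPushforwardAdjunction i).unit.app P) := by
  refine ⟨fun {T} f g h => LimMod.hom_ext_basis (P := IsAffineOpen) ?_ _ _ fun U hU s => ?_⟩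
  · intro V x hx
    obtain ⟨_, ⟨W, hW, rfl⟩, hxW, hWV⟩ := X.isBasis_affineOpens.exists_subset_of_mem_open hx V.isOpen
    exact ⟨W, hW, hxW, hWV⟩
  · obtain ⟨z, rfl⟩ := (QCoh.unit_app_closed i hP hU).1 s
    exact congr($(h).app U z)

include sq in
/-- The unit of a closed immersion cut out by an ideal of the base is reduction modulo that ideal. -/
theorem isQuot_unit {P : X.Modules} (hP : Coh.IsQCoh P) :
    Algz7.IsQuot J ((Scheme.Modules.pullbackPushforwardAdjunction i).unit.app P) := by
  haveI := epi_unit (i := i) hP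
  refine Algz7.IsQuot.mk' _ (killedBy_push sq (QCoh.isQCoh_pullback i hP)) fun {T} φ hφ => ?_
  let K := cokernel (Formal.smulFamily J P)
  have hK0 : Algz7.IsQuot J (cokernel.π (Formal.smulFamily J P)) := ⟨cokernel.condition _, by
    have : cokernel.desc (Formal.smulFamily J P) (cokernel.π _) (cokernel.condition _) = 𝟙 _ :=
      coequalizer.hom_ext (by rw [cokernel.π_desc, Category.comp_id])
    rw [this]; infer_instance⟩
  have hKq : Coh.IsQCoh K := QCoh.isQCoh_cokernel (QCoh.isQCoh_colimit _ fun _ => hP) hP _
  haveI := H9LiftLF.isIso_unit_of_killed i hKq (killed_of_killedBy sq (Algz7.killedBy_of_isQuot hK0))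
  refine ⟨(Scheme.Modules.pushforward i).map ((Scheme.Modules.pullback i).map (cokernel.π (Formal.smulFamily J P))) ≫
    inv ((Scheme.Modules.pullbackPushforwardAdjunction i).unit.app K) ≫ cokernel.desc _ φ hφ, ?_⟩
  have hnat : (Scheme.Modules.pullbackPushforwardAdjunction i).unit.app P ≫
      (Scheme.Modules.pushforward i).map ((Scheme.Modules.pullback i).map (cokernel.π (Formal.smulFamily J P))) =
      cokernel.π (Formal.smulFamily J P) ≫ (Scheme.Modules.pullbackPushforwardAdjunction i).unit.app K :=
    ((Scheme.Modules.pullbackPushforwardAdjunction i).unit.naturality (cokernel.π (Formal.smulFamily J P))).symm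
  rw [← Category.assoc, hnat, Category.assoc, IsIso.hom_inv_id_assoc]
  exact cokernel.π_desc _ φ hφ

end Groth.Agent.H9Existence
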